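import Cfsg.Agent.Lib.AbelianSylow.Local.Basic
import Cfsg.Agent.Lib.PSL2.Centralizers
import Cfsg.Agent.Lib.PSL2.Elements

/-!
# Centralisers of elements of `L` with odd centraliser in `L` (owner: helper80)

* `LFac.cent_split`       : if `C_L(y)` has odd order then `C(y) = W ⟨t⟩`, `W` odd normal, `C_W(t) = C_L(y)`
* `LFac.cent_inf_coTorus` : `C_L(y)` is cyclic of order `b = (q + ε) / 2` for `y ≠ 1` of order dividing `b`
* `LFac.card_cent_inf_unip` : `|C_L(u)| = q` for `u` of order `p`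
* `LFac.exists_coTorus`, `LFac.exists_unip` : such elements exist
-/

set_option autoImplicit false
set_option linter.unusedSectionVars false
set_option linter.style.haveILetI false

namespace Cfsg.Agent.AbelianSylow.Local

open Cfsg Subgroup AbelianTwoPSL Involution

universe u

variable {G : Type u} [Group G] [Finite G] {F : Type} [Field F] [Fintype F] {t : G} {L : Subgroup G}

/-- `C(y) = W ⟨t⟩` with `W` odd, normal, `C_W(t) = C_L(y)`. -/
theorem LFac.cent_split (h : LFac t F L) {y : G} (hy : y ∈ L)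
    (hodd : Odd (Nat.card ↥(centralizer ({y} : Set G) ⊓ L))) :
    ∃ W : Subgroup G, W ≤ centralizer ({y} : Set G) ∧ Odd (Nat.card W) ∧
      (∀ z ∈ centralizer ({y} : Set G), z ∈ W ∨ ∃ w ∈ W, z = t * w) ∧
      (∀ z ∈ centralizer ({y} : Set G), ∀ w ∈ W, z * w * z⁻¹ ∈ W) ∧
      W ⊓ centralizer ({t} : Set G) = centralizer ({y} : Set G) ⊓ L ∧
      Nat.card (centralizer ({y} : Set G)) = 2 * Nat.card W := by
  classical
  haveI : Fact (Nat.Prime 2) := ⟨Nat.prime_two⟩
  set C := centralizer ({y} : Set G)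
  have htC : t ∈ C := mem_centralizer_singleton_iff.2 (h.ctx.comm y hy).eq.symm
  set τ : C := ⟨t, htC⟩
  have hoτ : orderOf τ = 2 := by rw [← orderOf_coe]; exact h.data.invol
  -- `⟨t⟩` is a Sylow 2-subgroup of `C`
  obtain ⟨P, hP⟩ := (IsPGroup.of_card (G := zpowers τ) (p := 2) (n := 1)
    (by rw [Nat.card_zpowers, hoτ, pow_one])).exists_le_sylow
  have hτP : τ ∈ (P : Subgroup C) := hP (mem_zpowers τ)
  obtain ⟨Q, hQ⟩ := (P.2.map C.subtype).exists_le_sylow
  have hsmall : ∀ z ∈ (P : Subgroup C), z = 1 ∨ z = τ := by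
    intro z hz
    have hzQ : (z : G) ∈ (Q : Subgroup G) := hQ (mem_map_of_mem C.subtype hz)
    have htQ : t ∈ (Q : Subgroup G) := hQ (mem_map_of_mem C.subtype hτP)
    have hone : ∀ w : G, w ∈ C → w ∈ L → w * w = 1 → w = 1 := fun w hwC hwL hw =>
      PSL2.eq_one_of_sq (hodd.of_dvd_nat (Subgroup.orderOf_dvd_natCard _ ⟨hwC, hwL⟩)) hw
    have hsq : ∀ w : G, w ∈ (Q : Subgroup G) → w * w = 1 := fun w hw => by
      rw [← pow_two]; exact (h.data.sylow Q).1.2 w hw
    rcases h.ctx.split z (sylow_comm h.data Q z hzQ t htQ) with hzL | ⟨w, hw, hzw⟩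
    · exact Or.inl (Subtype.ext (hone z z.2 hzL (hsq z hzQ)))
    · have hwC : w ∈ C := by
        have := mul_mem htC z.2
        rwa [hzw, ← mul_assoc, h.tt, one_mul] at this
      have hwQ : w ∈ (Q : Subgroup G) := by
        have := mul_mem htQ hzQ
        rwa [hzw, ← mul_assoc, h.tt, one_mul] at this
      exact Or.inr (Subtype.ext (by rw [hzw, hone w hwC hw (hsq w hwQ), mul_one]))
  have hPτ : (P : Subgroup C) = zpowers τ := le_antisymm (fun z hz => by
    rcases hsmall z hz with rfl | rfl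
    exacts [one_mem _, mem_zpowers _]) hP
  have hPc : Nat.card (P : Subgroup C) = 2 := by rw [hPτ, Nat.card_zpowers, hoτ]
  have hnc : normalizer ((P : Subgroup C) : Set C) ≤ centralizer ((P : Subgroup C) : Set C) := by
    intro n hn
    rw [mem_centralizer_iff]
    intro z hz
    rcases hsmall z hz with rfl | rfl
    · simp
    · rcases hsmall _ ((mem_normalizer_iff.1 hn τ).1 hτP) with e | e
      · rw [conj_eq_one_iff] at e
        rw [e, orderOf_one] at hoτ
        omega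
      · exact (mul_inv_eq_iff_eq_mul.1 e).symm
  set W₀ := (MonoidHom.transferSylow P hnc).ker
  have hcomp := MonoidHom.ker_transferSylow_isComplement' P hnc
  have hodd0 : Odd (Nat.card W₀) :=
    Nat.odd_iff.2 (Nat.two_dvd_ne_zero.1 (MonoidHom.not_dvd_card_ker_transferSylow P hnc))
  have hsplit : ∀ z : C, z ∈ W₀ ∨ ∃ w ∈ W₀, z = τ * w := by
    intro z
    obtain ⟨⟨⟨w, hw⟩, ⟨p', hp'⟩⟩, e⟩ := hcomp.2 z
    simp only at e
    rcases hsmall p' hp' with rfl | rfl
    · rw [mul_one] at e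
      exact Or.inl (e ▸ hw)
    · refine Or.inr ⟨τ⁻¹ * w * τ, ?_, ?_⟩
      · have := (MonoidHom.normal_ker (MonoidHom.transferSylow P hnc)).conj_mem w hw τ⁻¹
        rwa [inv_inv] at this
      · rw [← e]
        group
  refine ⟨W₀.map C.subtype, map_subtype_le _, by rwa [card_map_of_injective C.subtype_injective],
    fun z hz => ?_, fun z hz w hw => ?_, le_antisymm (fun w hw => ?_) fun w hw => ?_, ?_⟩
  · rcases hsplit ⟨z, hz⟩ with e | ⟨w, hw, e⟩
    · exact Or.inl ⟨⟨z, hz⟩, e, rfl⟩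
    · exact Or.inr ⟨w, mem_map_of_mem C.subtype hw, congrArg Subtype.val e⟩
  · obtain ⟨w₀, hw₀, rfl⟩ := hw
    exact ⟨_, (MonoidHom.normal_ker _).conj_mem w₀ hw₀ ⟨z, hz⟩, rfl⟩
  · obtain ⟨⟨w₀, hw₀, rfl⟩, hwt⟩ := hw
    refine ⟨w₀.2, h.ctx.mem_of_odd (mem_centralizer_singleton_iff.1 hwt) ?_⟩
    exact (orderOf_coe w₀).symm ▸ hodd0.of_dvd_nat (W₀.orderOf_dvd_natCard hw₀)
  · refine ⟨?_, mem_centralizer_singleton_iff.2 (h.ctx.comm w hw.2).eq⟩
    have ho : Odd (orderOf w) := hodd.of_dvd_nat (Subgroup.orderOf_dvd_natCard _ hw)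
    set θ := MonoidHom.transferSylow P hnc
    set w₀ : C := ⟨w, hw.1⟩
    have h1 : orderOf (θ w₀) ∣ orderOf w := (orderOf_map_dvd θ w₀).trans (orderOf_coe w₀).symm.dvd
    have h2 : orderOf (θ w₀) ∣ 2 := (orderOf_dvd_natCard (θ w₀)).trans (dvd_of_eq hPc)
    have h3 : orderOf (θ w₀) = 1 :=
      Nat.eq_one_of_dvd_coprimes (Nat.coprime_two_right.2 ho) h1 h2
    exact ⟨w₀, MonoidHom.mem_ker.2 (orderOf_eq_one_iff.1 h3), rfl⟩
  · rw [card_map_of_injective C.subtype_injective, ← hcomp.card_mul_card, hPc, mul_comm]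

theorem LFac.card_cent_inf (_h : LFac t F L) {y : G} (hy : y ∈ L) (e : ↥L ≃* PSL2.PSL2 F) :
    Nat.card ↥(centralizer ({y} : Set G) ⊓ L) =
      Nat.card (centralizer ({e ⟨y, hy⟩} : Set (PSL2.PSL2 F))) := by
  refine Nat.card_congr
    { toFun := fun z => ⟨e ⟨z, z.2.2⟩, mem_centralizer_singleton_iff.2 (by
        rw [← map_mul, ← map_mul]
        exact congrArg e (Subtype.ext (mem_centralizer_singleton_iff.1 z.2.1)))⟩
      invFun := fun z => ⟨(e.symm z : L), mem_centralizer_singleton_iff.2 (by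
        have := congrArg e.symm (mem_centralizer_singleton_iff.1 z.2)
        rw [map_mul, map_mul, e.symm_apply_apply] at this
        exact congrArg Subtype.val this), (e.symm z).2⟩
      left_inv := fun z => Subtype.ext (by simp)
      right_inv := fun z => Subtype.ext (by simp) }

/-- The order of the torus with odd order. -/
theorem LFac.coTorus_param (h : LFac t F L) : ∃ b : ℕ, Odd b ∧
    ((Fintype.card F % 8 = 3 ∧ Fintype.card F = 2 * b + 1) ∨
      (Fintype.card F % 8 = 5 ∧ Fintype.card F + 1 = 2 * b)) := by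
  rcases h.data.mod8 with h8 | h8
  · exact ⟨(Fintype.card F - 1) / 2, Nat.odd_iff.2 (by omega), Or.inl ⟨h8, by omega⟩⟩
  · exact ⟨(Fintype.card F + 1) / 2, Nat.odd_iff.2 (by omega), Or.inr ⟨h8, by omega⟩⟩

/-- `C_L(y)` for `y` in the odd torus. -/
theorem LFac.cent_inf_coTorus (h : LFac t F L) {b : ℕ}
    (hb : (Fintype.card F % 8 = 3 ∧ Fintype.card F = 2 * b + 1) ∨
      (Fintype.card F % 8 = 5 ∧ Fintype.card F + 1 = 2 * b))
    {y : G} (hy : y ∈ L) (hyb : orderOf y ∣ b) (hy1 : y ≠ 1) :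
    ∃ g ∈ L, orderOf g = b ∧ y ∈ zpowers g ∧ centralizer ({y} : Set G) ⊓ L = zpowers g := by
  obtain ⟨e⟩ := h.iso
  have hc : Nat.card F = Fintype.card F := Nat.card_eq_fintype_card
  have h5 := h.data.five
  have hg : Nat.gcd 2 (Nat.card F - 1) = 2 := Nat.gcd_eq_left (by omega)
  have hbodd : Odd b := by rw [Nat.odd_iff]; omega
  obtain ⟨p, hp⟩ := CharP.exists F
  haveI : Fact p.Prime := ⟨CharP.char_is_prime F p⟩
  have hpq : p ∣ Fintype.card F := by
    obtain ⟨k, _, hk⟩ := FiniteField.card F p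
    exact hk ▸ dvd_pow_self p k.pos.ne'
  set x := e ⟨y, hy⟩
  have hox : orderOf x = orderOf y := by
    rw [MulEquiv.orderOf_eq]; exact (orderOf_coe _).symm
  have hne : orderOf y ≠ 1 := fun e => hy1 (orderOf_eq_one_iff.1 e)
  have hnd : ¬ orderOf x ∣ p := fun hd => by
    rw [hox] at hd
    rcases (Nat.dvd_prime (Fact.out : p.Prime)).1 hd with e' | e'
    · exact hne e'
    · rw [e'] at hyb
      have h1 : p ∣ 1 := by
        rcases hb with ⟨_, e1⟩ | ⟨_, e1⟩
        · exact (Nat.dvd_add_right (hyb.trans (dvd_mul_left b 2))).1 (e1 ▸ hpq)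
        · exact (Nat.dvd_add_right hpq).1 (e1 ▸ hyb.trans (dvd_mul_left b 2))
      exact (Fact.out : p.Prime).not_dvd_one h1
  have h3 : 3 ≤ orderOf x := by
    rw [hox]
    have h1 := hbodd.of_dvd_nat hyb
    rw [Nat.odd_iff] at h1
    omega
  obtain ⟨g, hxg, hC, hg'⟩ := PSL2.centralizer_torus p hnd h3
  have hgb : orderOf g = b := by
    have hd : orderOf x ∣ orderOf g := orderOf_dvd_of_mem_zpowers hxg
    have hcop := PSL2.coprime_torus (F := F)
    rw [hg] at hg' hcop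
    rcases hb with ⟨_, e1⟩ | ⟨_, e1⟩ <;> rcases hg' with e' | e'
    · omega
    · exfalso
      rw [e', hox] at hd
      have hb' : b = (Nat.card F - 1) / 2 := by omega
      exact hne (Nat.eq_one_of_dvd_coprimes hcop (hb' ▸ hyb) hd)
    · exfalso
      rw [e', hox] at hd
      have hb' : b = (Nat.card F + 1) / 2 := by omega
      exact hne (Nat.eq_one_of_dvd_coprimes hcop hd (hb' ▸ hyb))
    · omega
  refine ⟨(e.symm g : L), (e.symm g).2, by rw [orderOf_coe, MulEquiv.orderOf_eq, hgb], ?_, ?_⟩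
  · obtain ⟨k, hk⟩ := hxg
    refine ⟨k, ?_⟩
    simp only at hk ⊢
    rw [← Subgroup.coe_zpow, ← map_zpow, hk, e.symm_apply_apply]
  · refine le_antisymm (fun z hz => ?_) (zpowers_le.2 ⟨?_, (e.symm g).2⟩)
    · have h1 : e ⟨z, hz.2⟩ ∈ centralizer ({x} : Set (PSL2.PSL2 F)) :=
        mem_centralizer_singleton_iff.2 (by
          rw [← map_mul, ← map_mul]
          exact congrArg e (Subtype.ext (mem_centralizer_singleton_iff.1 hz.1)))
      rw [hC] at h1
      obtain ⟨k, hk⟩ := h1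
      refine ⟨k, ?_⟩
      simp only at hk ⊢
      rw [← Subgroup.coe_zpow, ← map_zpow, hk, e.symm_apply_apply]
    · have h1 : g ∈ centralizer ({x} : Set (PSL2.PSL2 F)) := hC ▸ mem_zpowers g
      refine mem_centralizer_singleton_iff.2 ?_
      have := congrArg e.symm (mem_centralizer_singleton_iff.1 h1)
      rw [map_mul, map_mul, e.symm_apply_apply] at this
      exact congrArg Subtype.val this

theorem LFac.card_cent_inf_coTorus (h : LFac t F L) {b : ℕ}
    (hb : (Fintype.card F % 8 = 3 ∧ Fintype.card F = 2 * b + 1) ∨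
      (Fintype.card F % 8 = 5 ∧ Fintype.card F + 1 = 2 * b))
    {y : G} (hy : y ∈ L) (hyb : orderOf y ∣ b) (hy1 : y ≠ 1) :
    Nat.card ↥(centralizer ({y} : Set G) ⊓ L) = b := by
  obtain ⟨g, _, hg, _, hC⟩ := h.cent_inf_coTorus hb hy hyb hy1
  rw [hC, Nat.card_zpowers, hg]

theorem LFac.exists_coTorus (h : LFac t F L) {b : ℕ}
    (hb : (Fintype.card F % 8 = 3 ∧ Fintype.card F = 2 * b + 1) ∨
      (Fintype.card F % 8 = 5 ∧ Fintype.card F + 1 = 2 * b)) : ∃ y ∈ L, orderOf y = b := by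
  obtain ⟨e⟩ := h.iso
  have hc : Nat.card F = Fintype.card F := Nat.card_eq_fintype_card
  have h5 := h.data.five
  have hg : Nat.gcd 2 (Nat.card F - 1) = 2 := Nat.gcd_eq_left (by omega)
  obtain ⟨x, hx⟩ := PSL2.exists_psl_orderOf_torus (F := F) (m := b) (by
    rw [hg]
    rcases hb with ⟨_, e1⟩ | ⟨_, e1⟩
    · exact Or.inl ⟨1, by omega⟩
    · exact Or.inr ⟨1, by omega⟩)
  exact ⟨(e.symm x : L), (e.symm x).2, by rw [orderOf_coe, MulEquiv.orderOf_eq, hx]⟩

/-- `|C_L(u)| = q` for `u` of order `p`. -/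
theorem LFac.card_cent_inf_unip (h : LFac t F L) (p : ℕ) [Fact p.Prime] [CharP F p] {u : G}
    (hu : u ∈ L) (hp : orderOf u = p) :
    Nat.card ↥(centralizer ({u} : Set G) ⊓ L) = Fintype.card F := by
  obtain ⟨e⟩ := h.iso
  have ho : orderOf (e ⟨u, hu⟩) = p := by
    rw [MulEquiv.orderOf_eq, ← orderOf_coe]; exact hp
  rw [h.card_cent_inf hu e, PSL2.card_centralizer_char p ho, Nat.card_eq_fintype_card]

theorem LFac.exists_unip (h : LFac t F L) (p : ℕ) [Fact p.Prime] [CharP F p] :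
    ∃ u ∈ L, orderOf u = p := by
  have hpq : p ∣ Fintype.card F := by
    obtain ⟨k, _, hk⟩ := FiniteField.card F p
    exact hk ▸ dvd_pow_self p k.pos.ne'
  have hd : p ∣ 2 * Nat.card L := h.card_L ▸ hpq.trans (dvd_mul_right _ _)
  have hodd : ¬ p ∣ 2 := fun h2 => by
    have h2' := (Nat.prime_dvd_prime_iff_eq (Fact.out : p.Prime) Nat.prime_two).1 h2
    rw [h2'] at hpq
    have := h.data.mod8
    omega
  obtain ⟨u, hu⟩ := exists_prime_orderOf_dvd_card' (G := L) p
    (((Fact.out : p.Prime).dvd_mul.1 hd).resolve_left hodd)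
  exact ⟨u, u.2, by rw [orderOf_coe, hu]⟩

end Cfsg.Agent.AbelianSylow.Local
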