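import Cfsg.Agent.Lib.AbelianSylow.Local.Basic
import Cfsg.Agent.Lib.PSL2.Elements
import Cfsg.Agent.Lib.PSL2.Torus

/-!
# The torus in the Janko-Thompson situation (owner: helper80)

`T : Torus F t L a S V i s y`: `y ∈ L` of order `2a` (`a` odd, `4a = q ± 1`), `i = y^a` in the frame
`V` of the Sylow 2-subgroup `S`, `s ∈ V` inverts `y`.

`four t i = ⟨t, i⟩`, `oddTor y = ⟨y²⟩` (order `a`), `tor t y = ⟨t⟩ ⟨y⟩ = four × oddTor`.

* `exists_torus`        : it exists
* `Torus.exists_cycle`  : `r ∈ N(S)` with `t ↦ i ↦ t i ↦ t`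
* `Torus.cent_four`     : `C(E) = tor ∪ s tor`
* `Torus.mem_oddTor`    : an element of odd order centralising `E` is in `oddTor`
* `Torus.cent_inf`      : `C(x) ∩ C(e) = tor` for `x ∈ oddTor#`, `e ∈ E#`
-/

set_option autoImplicit false
set_option linter.unusedSectionVars false
set_option linter.style.haveILetI false

namespace Cfsg.Agent.AbelianSylow.Local

open Cfsg Subgroup AbelianTwoPSL Involution

universe u

variable {G : Type u} [Group G] [Finite G] {F : Type} [Field F] [Fintype F]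

/-- `⟨t⟩ ⟨y⟩`. -/
def tor (t y : G) : Subgroup G := zpowers t ⊔ zpowers y

/-- `⟨t, i⟩`. -/
def four (t i : G) : Subgroup G := zpowers t ⊔ zpowers i

/-- The odd part of the torus. -/
def oddTor (y : G) : Subgroup G := zpowers (y ^ 2)

/-- The chosen torus. -/
structure Torus (F : Type) [Field F] [Fintype F] (t : G) (L : Subgroup G) (a : ℕ) (S : Sylow 2 G)
    (V : Subgroup G) (i s y : G) : Prop where
  fac : LFac t F L
  frame : Frame t L L S V
  a_odd : Odd a
  hq : (Fintype.card F % 8 = 3 ∧ Fintype.card F + 1 = 4 * a) ∨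
    (Fintype.card F % 8 = 5 ∧ Fintype.card F = 4 * a + 1)
  yL : y ∈ L
  oy : orderOf y = 2 * a
  ipow : y ^ a = i
  iV : i ∈ V
  i_ne : i ≠ 1
  sV : s ∈ V
  s_ne : s ≠ 1
  si : s ≠ i
  inv : s * y * s⁻¹ = y⁻¹
  cent : ∀ z ∈ L, Commute z i → z ∈ zpowers y ∨ s * z ∈ zpowers y

variable {t : G} {L : Subgroup G}

theorem LFac.torus_param (h : LFac t F L) : ∃ a : ℕ, Odd a ∧
    ((Fintype.card F % 8 = 3 ∧ Fintype.card F + 1 = 4 * a) ∨
      (Fintype.card F % 8 = 5 ∧ Fintype.card F = 4 * a + 1)) := by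
  rcases h.data.mod8 with h8 | h8
  · exact ⟨(Fintype.card F + 1) / 4, Nat.odd_iff.2 (by omega), Or.inl ⟨h8, by omega⟩⟩
  · exact ⟨(Fintype.card F - 1) / 4, Nat.odd_iff.2 (by omega), Or.inr ⟨h8, by omega⟩⟩

theorem card_cent_psl {a : ℕ} (hq : (Fintype.card F % 8 = 3 ∧ Fintype.card F + 1 = 4 * a) ∨
    (Fintype.card F % 8 = 5 ∧ Fintype.card F = 4 * a + 1)) {x : PSL2.PSL2 F} (hx : orderOf x = 2) :
    Nat.card (centralizer ({x} : Set (PSL2.PSL2 F))) = 4 * a := by
  have hc : Nat.card F = Fintype.card F := Nat.card_eq_fintype_card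
  obtain ⟨h1, h3⟩ := PSL2.card_centralizer_involution (F := F)
    (by rw [Nat.odd_iff]; omega) hx
  rcases hq with ⟨h8, e⟩ | ⟨h8, e⟩
  · rw [h3 (by omega)]; omega
  · rw [h1 (by omega)]; omega

/-- Existence of the torus. -/
theorem exists_torus (h : LFac t F L) : ∃ (a : ℕ) (S : Sylow 2 G) (V : Subgroup G) (i s y : G),
    Torus F t L a S V i s y := by
  classical
  obtain ⟨a, ha, hq⟩ := h.torus_param
  obtain ⟨S, V, f⟩ := h.ctx.exists_frame
  obtain ⟨e⟩ := h.iso
  have hc : Nat.card F = Fintype.card F := Nat.card_eq_fintype_card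
  have hg : Nat.gcd 2 (Nat.card F - 1) = 2 := Nat.gcd_eq_left (by omega)
  obtain ⟨x₀, hx₀⟩ := PSL2.exists_psl_orderOf_torus (F := F) (m := 2 * a) (by
    rw [hg]
    rcases hq with ⟨_, e⟩ | ⟨_, e⟩
    · exact Or.inr ⟨1, by omega⟩
    · exact Or.inl ⟨1, by omega⟩)
  -- an involution of `V`
  obtain ⟨i, hiV, hi1⟩ : ∃ i ∈ V, i ≠ (1 : G) := by
    by_contra! hcon
    have := f.card_V
    rw [(eq_bot_iff_forall V).2 hcon] at this
    simp at this
  have ha0 : a ≠ 0 := fun e => by rw [e] at ha; simp at ha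
  have ho₀ : orderOf (x₀ ^ a) = 2 := by
    rw [orderOf_pow_of_dvd ha0 (hx₀ ▸ dvd_mul_left a 2), hx₀, Nat.mul_div_cancel _ (by omega)]
  set y₀ : L := e.symm x₀ with hy₀
  obtain ⟨k, hk⟩ := isConj_iff.1 (h.ctx.data.conj (y₀ ^ a) ⟨i, f.memE₀ hiV⟩
    (by rw [hy₀, ← map_pow, MulEquiv.orderOf_eq, ho₀])
    (by rw [← orderOf_coe]; exact f.orderOf_V hiV hi1))
  set y : L := k * y₀ * k⁻¹ with hy
  have hoy : orderOf y = 2 * a := by
    rw [hy, show k * y₀ * k⁻¹ = MulAut.conj k y₀ from rfl, MulEquiv.orderOf_eq, hy₀,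
      MulEquiv.orderOf_eq, hx₀]
  have hya : ((y : G)) ^ a = i := by
    rw [← Subgroup.coe_pow, hy, conj_pow, hk]
  obtain ⟨s, hsV, hs1, hsi⟩ : ∃ s ∈ V, s ≠ (1 : G) ∧ s ≠ i := by
    by_contra! hcon
    have hle : ((V : Subgroup G) : Set G) ⊆ {1, i} := fun z hz => by
      by_cases h1 : z = 1
      · exact Or.inl h1
      · exact Or.inr (hcon z hz h1)
    have := Set.ncard_le_ncard hle (Set.toFinite _)
    rw [← Nat.card_coe_set_eq, Set.ncard_pair (Ne.symm hi1)] at this
    have h4 := f.card_V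
    change Nat.card V ≤ 2 at this
    omega
  set i' : L := ⟨i, f.memE₀ hiV⟩
  set s' : L := ⟨s, f.memE₀ hsV⟩
  set C := centralizer ({i'} : Set L)
  have hmem : ∀ z : L, z ∈ C ↔ Commute z i' := fun z => mem_centralizer_singleton_iff
  have hyi : y ^ a = i' := Subtype.ext (by rw [Subgroup.coe_pow]; exact hya)
  have hyC : y ∈ C := (hmem y).2 (hyi ▸ Commute.self_pow y a)
  have hC : Nat.card C = 4 * a := by
    have hi2 : orderOf (e i') = 2 := by
      rw [MulEquiv.orderOf_eq, ← orderOf_coe]; exact f.orderOf_V hiV hi1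
    rw [← card_cent_psl hq hi2]
    refine Nat.card_congr (e.toEquiv.subtypeEquiv fun z => ?_)
    rw [hmem, mem_centralizer_singleton_iff]
    exact ⟨fun hz => (hz.map e.toMonoidHom).eq, fun hz => by
      have := (show Commute (e z) (e i') from hz).map e.symm.toMonoidHom
      simpa using this⟩
  haveI : IsMulCommutative (S : Subgroup G) :=
    ⟨⟨fun u v => Subtype.ext (sylow_comm h.data S u u.2 v v.2).eq⟩⟩
  have hsC : s' ∈ C := (hmem s').2 (Subtype.ext
    (sylow_comm h.data S s (f.memA hsV) i (f.memA hiV)).eq)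
  have hsy : s' ∉ zpowers y := by
    intro hs
    obtain ⟨j, hj⟩ : ∃ j : ℕ, y ^ j = s' := by
      rwa [← Submonoid.mem_powers_iff, mem_powers_iff_mem_zpowers]
    have h2 : s' ^ 2 = 1 := Subtype.ext (by rw [Subgroup.coe_pow, pow_two]; exact f.sq_V hsV)
    rw [← hj, ← pow_mul, ← orderOf_dvd_iff_pow_eq_one, hoy, mul_comm j] at h2
    obtain ⟨c, hc'⟩ := Nat.dvd_of_mul_dvd_mul_left two_pos h2
    rcases Nat.even_or_odd c with ⟨d, hd⟩ | ⟨d, hd⟩
    · refine hs1 (congrArg Subtype.val (show s' = 1 from ?_))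
      rw [← hj, hc', hd, show a * (d + d) = (2 * a) * d by ring, pow_mul, ← hoy,
        pow_orderOf_eq_one, one_pow]
    · refine hsi (congrArg Subtype.val (show s' = i' from ?_))
      rw [← hj, hc', hd, show a * (2 * d + 1) = (2 * a) * d + a by ring, pow_add, pow_mul, ← hoy,
        pow_orderOf_eq_one, one_pow, one_mul, hyi]
  have hidx : ((zpowers y).subgroupOf C).index = 2 := by
    have h1 := ((zpowers y).subgroupOf C).card_mul_index
    rw [Nat.card_congr (subgroupOfEquivOfLe (zpowers_le.2 hyC)).toEquiv, Nat.card_zpowers, hoy, hC,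
      show 4 * a = 2 * a * 2 by ring] at h1
    exact Nat.eq_of_mul_eq_mul_left (by omega) h1
  have hcover : ∀ z ∈ C, z ∈ zpowers y ∨ s' * z ∈ zpowers y := fun z hz => by
    have := mul_mem_iff_of_index_two hidx (a := ⟨s', hsC⟩) (b := ⟨z, hz⟩)
    simp only [mem_subgroupOf, Subgroup.coe_mul, hsy, false_iff] at this
    tauto
  refine ⟨a, S, V, i, s, y, ⟨h, f, ha, hq, y.2, by rw [orderOf_coe, hoy], hya, hiV, hi1, hsV, hs1,
    hsi, ?_, fun z hz hzi => ?_⟩⟩
  · rcases Nat.lt_or_ge a 2 with h2 | h2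
    · have h1 : a = 1 := by omega
      rw [h1, pow_one] at hya
      rw [hya, (sylow_comm h.data S s (f.memA hsV) i (f.memA hiV)).eq, mul_inv_cancel_right,
        eq_comm, inv_eq_iff_mul_eq_one]
      exact f.sq_V hiV
    · obtain ⟨p, hp⟩ := CharP.exists F
      haveI : Fact p.Prime := ⟨CharP.char_is_prime F p⟩
      have hpx : ¬ orderOf (e y) ∣ p := fun hd => by
        rw [MulEquiv.orderOf_eq, hoy] at hd
        rcases (Nat.dvd_prime (Fact.out : p.Prime)).1 hd with e' | e'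
        · omega
        · have := (Nat.dvd_prime (Fact.out : p.Prime)).1 (Dvd.intro a e'.symm.symm : 2 ∣ p)
          omega
      obtain ⟨w₀, hw2, hw⟩ := PSL2.exists_inverting p hpx
      set w : L := e.symm w₀ with hwdef
      have hwy : w * y * w⁻¹ = y⁻¹ := by
        apply e.injective
        rw [map_mul, map_mul, map_inv, map_inv, hwdef, e.apply_symm_apply, hw]
      have hwC : w ∈ C := (hmem w).2 (by
        have h1 : w * i' * w⁻¹ = i' := by
          rw [← hyi, ← conj_pow, hwy, inv_pow, hyi, inv_eq_iff_mul_eq_one]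
          exact Subtype.ext (f.sq_V hiV)
        exact mul_inv_eq_iff_eq_mul.1 h1)
      have hwn : w ∉ zpowers y := by
        rintro ⟨j, hj⟩
        simp only at hj
        rw [← hj] at hwy
        rw [((Commute.refl y).zpow_left j).eq, mul_inv_cancel_right, eq_inv_iff_mul_eq_one,
          ← pow_two, ← orderOf_dvd_iff_pow_eq_one, hoy] at hwy
        have := Nat.le_of_dvd two_pos hwy
        omega
      obtain ⟨j, hj⟩ := (hcover w hwC).resolve_left hwn
      simp only at hj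
      have hs' : s' = y ^ j * w⁻¹ := eq_mul_inv_of_mul_eq hj.symm
      refine congrArg Subtype.val (show s' * y * s'⁻¹ = y⁻¹ from ?_)
      have hw' : w⁻¹ * y * w = y⁻¹ := by
        have := congrArg (fun z => (w⁻¹ * z⁻¹ * w)) hwy
        simp only [inv_inv, mul_inv_rev] at this
        rw [← this]
        group
      rw [hs', mul_inv_rev, inv_inv,
        show y ^ j * w⁻¹ * y * (w * (y ^ j)⁻¹) = y ^ j * (w⁻¹ * y * w) * (y ^ j)⁻¹ by group, hw']
      group
  · have := hcover ⟨z, hz⟩ ((hmem _).2 (Subtype.ext hzi.eq))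
    rcases this with ⟨j, hj⟩ | ⟨j, hj⟩
    · exact Or.inl ⟨j, congrArg Subtype.val hj⟩
    · exact Or.inr ⟨j, congrArg Subtype.val hj⟩

variable {a : ℕ} {S : Sylow 2 G} {V : Subgroup G} {i s y : G}

theorem Torus.a_pos (T : Torus F t L a S V i s y) : 0 < a := T.a_odd.pos

theorem Torus.ii (T : Torus F t L a S V i s y) : i * i = 1 := T.frame.sq_V T.iV

theorem Torus.commute_ty (T : Torus F t L a S V i s y) : Commute t y :=
  (T.fac.ctx.comm y T.yL).symm

theorem Torus.commute_ti (T : Torus F t L a S V i s y) : Commute t i :=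
  (T.frame.commute_V T.iV).symm

theorem Torus.commute_st (T : Torus F t L a S V i s y) : Commute s t := T.frame.commute_V T.sV

theorem Torus.commute_si (T : Torus F t L a S V i s y) : Commute s i :=
  sylow_comm T.fac.data S s (T.frame.memA T.sV) i (T.frame.memA T.iV)

theorem Torus.t_ne_i (T : Torus F t L a S V i s y) : t ≠ i := fun e => T.frame.t_not_mem (e ▸ T.iV)

theorem Torus.ti_ne_one (T : Torus F t L a S V i s y) : t * i ≠ 1 := fun e =>
  T.frame.mul_not_mem T.iV (e ▸ one_mem V)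

theorem Torus.mem_tor_iff (T : Torus F t L a S V i s y) {z : G} :
    z ∈ tor t y ↔ ∃ j k : ℤ, z = t ^ j * y ^ k := by
  have hle : zpowers t ≤ normalizer (zpowers y : Set G) := zpowers_le.2 (centralizer_le_normalizer _
    (mem_centralizer_iff.2 fun w ⟨k, hk⟩ => hk ▸ (T.commute_ty.zpow_right k).eq.symm))
  rw [tor, ← SetLike.mem_coe, coe_mul_of_left_le_normalizer_right _ _ hle, Set.mem_mul]
  constructor
  · rintro ⟨_, ⟨j, rfl⟩, _, ⟨k, rfl⟩, rfl⟩
    exact ⟨j, k, rfl⟩
  · rintro ⟨j, k, rfl⟩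
    exact ⟨_, ⟨j, rfl⟩, _, ⟨k, rfl⟩, rfl⟩

theorem Torus.t_mem_tor (_T : Torus F t L a S V i s y) : t ∈ tor t y :=
  le_sup_left (b := zpowers y) (mem_zpowers t)

theorem Torus.y_mem_tor (_T : Torus F t L a S V i s y) : y ∈ tor t y :=
  le_sup_right (a := zpowers t) (mem_zpowers y)

theorem Torus.four_le_tor (T : Torus F t L a S V i s y) : four t i ≤ tor t y :=
  sup_le (zpowers_le.2 T.t_mem_tor) (zpowers_le.2 (T.ipow ▸ pow_mem T.y_mem_tor a))

theorem Torus.oddTor_le_tor (T : Torus F t L a S V i s y) : oddTor y ≤ tor t y :=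
  zpowers_le.2 (pow_mem T.y_mem_tor 2)

theorem Torus.oddTor_le (T : Torus F t L a S V i s y) : oddTor y ≤ L :=
  zpowers_le.2 (pow_mem T.yL 2)

theorem Torus.four_le_sylow (T : Torus F t L a S V i s y) : four t i ≤ (S : Subgroup G) :=
  sup_le (zpowers_le.2 T.frame.htA) (zpowers_le.2 (T.frame.memA T.iV))

theorem Torus.four_cases (T : Torus F t L a S V i s y) {e : G} (he : e ∈ four t i) :
    e = 1 ∨ e = t ∨ e = i ∨ e = t * i := by
  have hle : zpowers t ≤ normalizer (zpowers i : Set G) := zpowers_le.2 (centralizer_le_normalizer _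
    (mem_centralizer_iff.2 fun w ⟨k, hk⟩ => hk ▸ (T.commute_ti.zpow_right k).eq.symm))
  rw [four, ← SetLike.mem_coe, coe_mul_of_left_le_normalizer_right _ _ hle, Set.mem_mul] at he
  obtain ⟨_, ⟨j, rfl⟩, _, ⟨k, rfl⟩, rfl⟩ := he
  have key : ∀ (u : G), u * u = 1 → ∀ n : ℤ, u ^ n = 1 ∨ u ^ n = u := fun u hu n => by
    rcases Int.even_or_odd n with ⟨m, rfl⟩ | ⟨m, rfl⟩
    · left; rw [zpow_add, ← (Commute.refl u).mul_zpow, hu, one_zpow]
    · right; rw [zpow_add, two_mul, zpow_add, ← (Commute.refl u).mul_zpow, hu, one_zpow, one_mul,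
        zpow_one]
  rcases key t T.fac.tt j with h1 | h1 <;> rcases key i T.ii k with h2 | h2 <;> simp [h1, h2]

theorem Torus.orderOf_sq (T : Torus F t L a S V i s y) : orderOf (y ^ 2) = a := by
  rw [orderOf_pow_of_dvd two_ne_zero (T.oy ▸ dvd_mul_right 2 a), T.oy,
    Nat.mul_div_cancel_left _ two_pos]

theorem Torus.card_oddTor (T : Torus F t L a S V i s y) : Nat.card (oddTor y) = a := by
  rw [oddTor, Nat.card_zpowers, T.orderOf_sq]

theorem Torus.odd_oddTor (T : Torus F t L a S V i s y) {x : G} (hx : x ∈ oddTor y) :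
    Odd (orderOf x) :=
  T.a_odd.of_dvd_nat (T.card_oddTor ▸ (oddTor y).orderOf_dvd_natCard hx)

/-- `tor = E × A`. -/
theorem Torus.tor_split (T : Torus F t L a S V i s y) {z : G} (hz : z ∈ tor t y) :
    ∃ e ∈ four t i, ∃ x ∈ oddTor y, z = e * x := by
  obtain ⟨j, k, rfl⟩ := T.mem_tor_iff.1 hz
  obtain ⟨m, hm⟩ := T.a_odd
  refine ⟨t ^ j * i ^ k, mul_mem (le_sup_left (b := zpowers i) (zpow_mem (mem_zpowers t) j))
    (le_sup_right (a := zpowers t) (zpow_mem (mem_zpowers i) k)), (y ^ 2) ^ (-(m : ℤ) * k),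
    zpow_mem (mem_zpowers _) _, ?_⟩
  rw [mul_assoc, ← T.ipow, ← zpow_natCast y a, ← zpow_natCast y 2, ← zpow_mul, ← zpow_mul,
    ← zpow_add]
  congr 2
  rw [hm]
  push_cast
  ring

theorem Torus.tor_comm (T : Torus F t L a S V i s y) {z w : G} (hz : z ∈ tor t y)
    (hw : w ∈ tor t y) : Commute z w := by
  obtain ⟨j, k, rfl⟩ := T.mem_tor_iff.1 hz
  obtain ⟨j', k', rfl⟩ := T.mem_tor_iff.1 hw
  have h := T.commute_ty
  exact Commute.mul_left
    (((Commute.refl t).zpow_zpow j j').mul_right (h.zpow_zpow j k'))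
    ((h.symm.zpow_zpow k j').mul_right ((Commute.refl y).zpow_zpow k k'))

/-- The centraliser of `E`. -/
theorem Torus.cent_four (T : Torus F t L a S V i s y) {z : G} (hzt : Commute z t)
    (hzi : Commute z i) : z ∈ tor t y ∨ s * z ∈ tor t y := by
  have hy : zpowers y ≤ tor t y := zpowers_le.2 T.y_mem_tor
  rcases T.fac.ctx.split z hzt with hz | ⟨w, hw, rfl⟩
  · exact (T.cent z hz hzi).imp (@hy _) (@hy _)
  · have hwi : Commute w i := by
      have : Commute (t * (t * w)) i := T.commute_ti.mul_left hzi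
      rwa [← mul_assoc, T.fac.tt, one_mul] at this
    refine (T.cent w hw hwi).imp (fun h => mul_mem T.t_mem_tor (hy h)) fun h => ?_
    rw [← mul_assoc, T.commute_st.eq, mul_assoc]
    exact mul_mem T.t_mem_tor (hy h)

/-- `s` inverts the odd part. -/
theorem Torus.s_inv (T : Torus F t L a S V i s y) {x : G} (hx : x ∈ oddTor y) :
    s * x * s⁻¹ = x⁻¹ := by
  obtain ⟨k, rfl⟩ := hx
  show s * (y ^ 2) ^ k * s⁻¹ = ((y ^ 2) ^ k)⁻¹
  rw [← conj_zpow, ← conj_pow, T.inv, inv_pow, inv_zpow]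

theorem Torus.s_fpf (T : Torus F t L a S V i s y) {x : G} (hx : x ∈ oddTor y) (hc : Commute s x) :
    x = 1 := by
  have h := T.s_inv hx
  rw [hc.eq, mul_inv_cancel_right, eq_inv_iff_mul_eq_one] at h
  exact PSL2.eq_one_of_sq (T.odd_oddTor hx) h

theorem Torus.s_not_mem_tor (T : Torus F t L a S V i s y) : s ∉ tor t y := fun h => by
  have hy : Commute s y := T.tor_comm h T.y_mem_tor
  have h2 := T.inv
  rw [hy.eq, mul_inv_cancel_right, eq_inv_iff_mul_eq_one, ← pow_two, ← orderOf_dvd_iff_pow_eq_one,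
    T.oy] at h2
  have := Nat.le_of_dvd two_pos h2
  have ha := T.a_pos
  have h1 : a = 1 := by omega
  have hiy : y = i := by rw [← T.ipow, h1, pow_one]
  obtain ⟨e, he, x, hx, rfl⟩ := T.tor_split h
  have hx1 : x = 1 := by
    have := T.card_oddTor
    rw [h1, card_eq_one] at this
    rwa [this, mem_bot] at hx
  have hsV := T.sV
  rw [hx1, mul_one] at hsV
  rcases T.four_cases he with rfl | rfl | rfl | rfl
  · exact T.s_ne (by rw [hx1, mul_one])
  · exact T.frame.t_not_mem hsV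
  · exact T.si (by rw [hx1, mul_one])
  · exact T.frame.mul_not_mem T.iV hsV

/-- An element of odd order centralising `E` is in the odd part. -/
theorem Torus.mem_oddTor (T : Torus F t L a S V i s y) {z : G} (hzt : Commute z t)
    (hzi : Commute z i) (hodd : Odd (orderOf z)) : z ∈ oddTor y := by
  obtain ⟨j, hj⟩ := hodd
  have hzL : z ∈ L := T.fac.ctx.mem_of_odd hzt ⟨j, hj⟩
  have he : z = (z ^ 2) ^ (j + 1) := by
    rw [← pow_mul, show 2 * (j + 1) = orderOf z + 1 by omega, pow_succ, pow_orderOf_eq_one, one_mul]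
  rcases T.cent z hzL hzi with ⟨k, hk⟩ | ⟨k, hk⟩ <;> simp only at hk
  · rw [he, ← hk]
    refine pow_mem ?_ _
    rw [← zpow_natCast, ← zpow_mul, mul_comm, zpow_mul, zpow_natCast]
    exact zpow_mem (mem_zpowers _) k
  · have h1 : z = 1 := by
      have hz : z = s * y ^ k := by
        rw [hk, ← mul_assoc, T.frame.sq_V T.sV, one_mul]
      rw [he]
      suffices z ^ 2 = 1 by rw [this, one_pow]
      rw [hz, pow_two, show s * y ^ k * (s * y ^ k) = s * y ^ k * s⁻¹ * (s * s * y ^ k) by group,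
        T.frame.sq_V T.sV, one_mul, ← conj_zpow, T.inv, inv_zpow, inv_mul_cancel]
    exact h1 ▸ one_mem _

/-- `r ∈ N(S)` permutes `t, i, t i` cyclically. -/
theorem Torus.exists_cycle (T : Torus F t L a S V i s y) : ∃ r : G,
    r ∈ normalizer ((S : Subgroup G) : Set G) ∧ r * t * r⁻¹ = i ∧ r * i * r⁻¹ = t * i ∧
      r * (t * i) * r⁻¹ = t := by
  classical
  have f := T.frame
  have hiS := f.memA T.iV
  have ht1 : t ≠ 1 := fun e => f.t_not_mem (e ▸ one_mem V)
  obtain ⟨n, hn, hnt⟩ := T.fac.normalizer_trans S f.htA ht1 hiS T.i_ne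
  set N := normalizer ((S : Subgroup G) : Set G)
  have huS : n⁻¹ * (t * i) * n ∈ (S : Subgroup G) := by
    simpa using (mem_normalizer_iff.1 (inv_mem hn) (t * i)).1 (mul_mem f.htA hiS)
  have hu1 : n⁻¹ * (t * i) * n ≠ 1 := fun e => T.ti_ne_one (conj_eq_one_iff.1 (by
    rw [inv_inv]; exact e : n⁻¹ * (t * i) * (n⁻¹)⁻¹ = 1))
  rcases (f.mem _ huS).2 with hu | ⟨v', hv', hu⟩
  · obtain ⟨v, hvL, hvN, hv⟩ := f.exists_normalizer T.iV T.i_ne hu hu1
    have hvt : v * t * v⁻¹ = t := by rw [(T.fac.ctx.comm v hvL).eq, mul_inv_cancel_right]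
    have h1 : n * v * t * (n * v)⁻¹ = i := by
      rw [show n * v * t * (n * v)⁻¹ = n * (v * t * v⁻¹) * n⁻¹ by group, hvt, hnt]
    have h2 : n * v * i * (n * v)⁻¹ = t * i := by
      rw [show n * v * i * (n * v)⁻¹ = n * (v * i * v⁻¹) * n⁻¹ by group, hv]
      group
    refine ⟨n * v, mul_mem hn hvN, h1, h2, ?_⟩
    rw [← conj_mul, h1, h2, T.commute_ti.eq, ← mul_assoc, T.ii, one_mul]
  · exfalso
    have hv1 : v' ≠ 1 := by
      intro e
      rw [e, mul_one] at hu
      have e2 : n * t * n⁻¹ = t * i := by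
        calc n * t * n⁻¹ = n * (n⁻¹ * (t * i) * n) * n⁻¹ := by rw [hu]
          _ = t * i := by group
      exact ht1 (mul_eq_right.1 (hnt ▸ e2).symm)
    have hnv : n⁻¹ * t * n = v' := by
      calc n⁻¹ * t * n = n⁻¹ * (t * i * i) * n := by rw [mul_assoc t, T.ii, mul_one]
        _ = (n⁻¹ * (t * i) * n) * (n⁻¹ * i * n) := by group
        _ = (t * v') * t := by rw [hu, ← hnt]; group
        _ = v' := by rw [mul_assoc, (f.commute_V hv').eq, ← mul_assoc, T.fac.tt, one_mul]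
    obtain ⟨v, hvL, hvN, hv⟩ := f.exists_normalizer T.iV T.i_ne hv' hv1
    have hvt : v * t * v⁻¹ = t := by rw [(T.fac.ctx.comm v hvL).eq, mul_inv_cancel_right]
    set g := n * v with hg
    have h1 : g * t * g⁻¹ = i := by
      rw [hg, show n * v * t * (n * v)⁻¹ = n * (v * t * v⁻¹) * n⁻¹ by group, hvt, hnt]
    have h2 : g * i * g⁻¹ = t := by
      rw [hg, show n * v * i * (n * v)⁻¹ = n * (v * i * v⁻¹) * n⁻¹ by group, hv, ← hnv]
      group
    have hsq : ∀ k : ℕ, (g ^ 2) ^ k * i * ((g ^ 2) ^ k)⁻¹ = i := by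
      have e : g ^ 2 * i * (g ^ 2)⁻¹ = i := by
        rw [pow_two, show g * g * i * (g * g)⁻¹ = g * (g * i * g⁻¹) * g⁻¹ by group, h2, h1]
      exact fun k => mul_inv_eq_iff_eq_mul.2 ((show Commute (g ^ 2) i from mul_inv_eq_iff_eq_mul.1 e).pow_left k)
    haveI : Fact (Nat.Prime 2) := ⟨Nat.prime_two⟩
    have hidx : ((S : Subgroup G).subgroupOf N).index = 21 := by
      have e := ((S : Subgroup G).subgroupOf N).card_mul_index
      rw [Nat.card_congr (subgroupOfEquivOfLe le_normalizer).toEquiv, f.card_eight,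
        T.fac.card_normalizer_sylow S] at e
      omega
    have h21 := ((S : Subgroup G).subgroupOf N).pow_index_mem ⟨g, mul_mem hn hvN⟩
    rw [hidx, mem_subgroupOf, Subgroup.coe_pow] at h21
    simp only at h21
    have hc : g ^ 21 * t * (g ^ 21)⁻¹ = t := by
      rw [(sylow_comm T.fac.data S _ h21 t f.htA).eq, mul_inv_cancel_right]
    rw [show g ^ 21 = (g ^ 2) ^ 10 * g by rw [← pow_mul, ← pow_succ],
      show (g ^ 2) ^ 10 * g * t * ((g ^ 2) ^ 10 * g)⁻¹ =
        (g ^ 2) ^ 10 * (g * t * g⁻¹) * ((g ^ 2) ^ 10)⁻¹ by group, h1, hsq] at hc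
    exact T.t_ne_i hc.symm

variable {r : G}

/-- What permutes `t, i, t i` normalises the odd part. -/
theorem Torus.cycle_oddTor (T : Torus F t L a S V i s y) (h1 : r * t * r⁻¹ = i)
    (h2 : r * i * r⁻¹ = t * i) {x : G} (hx : x ∈ oddTor y) :
    r * x * r⁻¹ ∈ oddTor y ∧ r⁻¹ * x * r ∈ oddTor y := by
  have hxt : Commute x t := T.tor_comm (T.oddTor_le_tor hx) T.t_mem_tor
  have hxi : Commute x i := T.tor_comm (T.oddTor_le_tor hx)
    (T.four_le_tor (le_sup_right (a := zpowers t) (mem_zpowers i)))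
  have hodd := T.odd_oddTor hx
  constructor
  · have c1 := hxt.map (MulAut.conj r).toMonoidHom
    have c2 := hxi.map (MulAut.conj r).toMonoidHom
    simp only [MulEquiv.coe_toMonoidHom, MulAut.conj_apply, h1, h2] at c1 c2
    refine T.mem_oddTor ?_ c1 (by rwa [orderOf_conj])
    have := c2.mul_right c1
    rwa [mul_assoc t, T.ii, mul_one] at this
  · have e1 : r⁻¹ * i * r = t := by rw [← h1]; group
    have e2 : r⁻¹ * t * r = t * i := by
      calc r⁻¹ * t * r = r⁻¹ * (t * i * i) * r := by rw [mul_assoc t, T.ii, mul_one]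
        _ = (r⁻¹ * (t * i) * r) * (r⁻¹ * i * r) := by group
        _ = i * t := by rw [e1, ← h2]; group
        _ = t * i := T.commute_ti.eq.symm
    have c1 := hxi.map (MulAut.conj r⁻¹).toMonoidHom
    have c2 := hxt.map (MulAut.conj r⁻¹).toMonoidHom
    simp only [MulEquiv.coe_toMonoidHom, MulAut.conj_apply, inv_inv, e1, e2] at c1 c2
    refine T.mem_oddTor c1 ?_ (by
      have := orderOf_conj r⁻¹ x
      rw [inv_inv] at this
      rwa [this])
    have := c1.mul_right c2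
    rwa [← mul_assoc, T.fac.tt, one_mul] at this

/-- What permutes `t, i, t i` normalises `tor`. -/
theorem Torus.cycle_tor (T : Torus F t L a S V i s y) (h1 : r * t * r⁻¹ = i)
    (h2 : r * i * r⁻¹ = t * i) {z : G} (hz : z ∈ tor t y) : r * z * r⁻¹ ∈ tor t y := by
  obtain ⟨e, he, x, hx, rfl⟩ := T.tor_split hz
  rw [← conj_mul]
  refine mul_mem ?_ (T.oddTor_le_tor (T.cycle_oddTor h1 h2 hx).1)
  have hi : i ∈ tor t y := T.four_le_tor (le_sup_right (a := zpowers t) (mem_zpowers i))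
  rcases T.four_cases he with rfl | rfl | rfl | rfl
  · simp
  · rw [h1]; exact hi
  · rw [h2]; exact mul_mem T.t_mem_tor hi
  · rw [← conj_mul, h1, h2]; exact mul_mem hi (mul_mem T.t_mem_tor hi)

/-- `C(x) ∩ C(t)` for `x ∈ A#`. -/
theorem Torus.cent_t (T : Torus F t L a S V i s y) {x z : G} (hx : x ∈ oddTor y) (hx1 : x ≠ 1)
    (hzx : Commute z x) (hzt : Commute z t) : z ∈ tor t y := by
  obtain ⟨e⟩ := T.fac.iso
  have hc : Nat.card F = Fintype.card F := Nat.card_eq_fintype_card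
  have key : ∀ w ∈ L, Commute w x → w ∈ zpowers y := by
    intro w hw hwx
    have h8 := T.fac.data.mod8
    have hg : Nat.gcd 2 (Nat.card F - 1) = 2 := Nat.gcd_eq_left (by omega)
    have hy : orderOf (e ⟨y, T.yL⟩) = 2 * a := by
      rw [MulEquiv.orderOf_eq, ← orderOf_coe, T.oy]
    obtain ⟨k, hk⟩ := hx
    have hxy : e ⟨x, T.oddTor_le ⟨k, hk⟩⟩ ∈ zpowers (e ⟨y, T.yL⟩) := ⟨2 * k, by
      show e ⟨y, T.yL⟩ ^ (2 * k) = _
      rw [← map_zpow]
      congr 1
      apply Subtype.ext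
      rw [Subgroup.coe_zpow]
      exact ((zpow_mul y (2 : ℤ) k).trans (congrArg (· ^ k) (zpow_ofNat y 2))).trans hk⟩
    have h3 : 3 ≤ orderOf (e ⟨x, T.oddTor_le ⟨k, hk⟩⟩) := by
      rw [MulEquiv.orderOf_eq, ← orderOf_coe]
      obtain ⟨j, hj⟩ := T.odd_oddTor (x := x) ⟨k, hk⟩
      have : orderOf x ≠ 1 := fun e' => hx1 (orderOf_eq_one_iff.1 e')
      show 3 ≤ orderOf x
      omega
    have hm := PSL2.mem_zpowers_of_commute_torus (z := e ⟨w, hw⟩) (by
      rw [hy, hg]
      rcases T.hq with ⟨_, e'⟩ | ⟨_, e'⟩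
      · exact Or.inr (by omega)
      · exact Or.inl (by omega)) hxy h3
      ((show Commute (⟨w, hw⟩ : L) ⟨x, T.oddTor_le ⟨k, hk⟩⟩ from Subtype.ext hwx.eq).map
        e.toMonoidHom)
    obtain ⟨m, hm⟩ := hm
    simp only at hm
    rw [← map_zpow] at hm
    exact ⟨m, congrArg Subtype.val (e.injective hm)⟩
  have hy' : zpowers y ≤ tor t y := zpowers_le.2 T.y_mem_tor
  rcases T.fac.ctx.split z hzt with hz | ⟨w, hw, rfl⟩
  · exact hy' (key z hz hzx)
  · refine mul_mem T.t_mem_tor (hy' (key w hw ?_))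
    have : Commute (t * (t * w)) x :=
      (T.tor_comm T.t_mem_tor (T.oddTor_le_tor hx)).mul_left hzx
    rwa [← mul_assoc, T.fac.tt, one_mul] at this

/-- `C(x) ∩ C(e) = tor` for `x ∈ A#` and `e ∈ E#`. -/
theorem Torus.cent_inf (T : Torus F t L a S V i s y) {e x : G} (he : e ∈ four t i) (he1 : e ≠ 1)
    (hx : x ∈ oddTor y) (hx1 : x ≠ 1) :
    centralizer ({x} : Set G) ⊓ centralizer ({e} : Set G) = tor t y := by
  obtain ⟨r, -, h1, h2, -⟩ := T.exists_cycle
  refine le_antisymm (fun z hz => ?_) fun z hz => ⟨mem_centralizer_singleton_iff.2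
    (T.tor_comm hz (T.oddTor_le_tor hx)).eq,
    mem_centralizer_singleton_iff.2 (T.tor_comm hz (T.four_le_tor he)).eq⟩
  obtain ⟨hzx, hze⟩ := hz
  replace hzx : z * x = x * z := mem_centralizer_singleton_iff.1 hzx
  replace hze : z * e = e * z := mem_centralizer_singleton_iff.1 hze
  -- pull back one step along `r`
  have step : ∀ e₀ : G, (∀ x ∈ oddTor y, x ≠ 1 → ∀ z, Commute z x → Commute z e₀ → z ∈ tor t y) →
      ∀ x ∈ oddTor y, x ≠ 1 → ∀ z, Commute z x → Commute z (r * e₀ * r⁻¹) → z ∈ tor t y := by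
    intro e₀ IH x hx hx1 z hzx hze
    have c1 := (show Commute z x from hzx).map (MulAut.conj r⁻¹).toMonoidHom
    have c2 := hze.map (MulAut.conj r⁻¹).toMonoidHom
    simp only [MulEquiv.coe_toMonoidHom, MulAut.conj_apply, inv_inv] at c1 c2
    rw [show r⁻¹ * (r * e₀ * r⁻¹) * r = e₀ by group] at c2
    have hm := IH _ (T.cycle_oddTor h1 h2 hx).2 (fun e' => hx1 (conj_eq_one_iff.1 (by
      rw [inv_inv]; exact e' : r⁻¹ * x * (r⁻¹)⁻¹ = 1))) _ c1 c2
    have := T.cycle_tor h1 h2 hm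
    rwa [show r * (r⁻¹ * z * r) * r⁻¹ = z by group] at this
  have H0 : ∀ x ∈ oddTor y, x ≠ 1 → ∀ z, Commute z x → Commute z t → z ∈ tor t y :=
    fun x hx hx1 z => T.cent_t hx hx1
  have H1 := step t H0
  rw [h1] at H1
  have H2 := step i H1
  rw [h2] at H2
  rcases T.four_cases he with rfl | rfl | rfl | rfl
  exacts [absurd rfl he1, H0 x hx hx1 z hzx hze, H1 x hx hx1 z hzx hze, H2 x hx hx1 z hzx hze]

theorem Torus.t_not_mem_zpowers (T : Torus F t L a S V i s y) : t ∉ zpowers y := fun h =>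
  T.fac.ctx.htE (zpowers_le.2 T.yL h)

/-- `tor = ⟨t⟩ × ⟨y⟩`. -/
theorem Torus.card_tor (T : Torus F t L a S V i s y) : Nat.card (tor t y) = 4 * a := by
  let φ : Bool × zpowers y → tor t y := fun p => ⟨(if p.1 then t else 1) * (p.2 : G), mul_mem (by
    split
    · exact T.t_mem_tor
    · exact one_mem _) (zpowers_le.2 T.y_mem_tor p.2.2)⟩
  have hφ : Function.Bijective φ := by
    constructor
    · rintro ⟨b, w⟩ ⟨b', w'⟩ e
      have e' : (if b then t else 1) * (w : G) = (if b' then t else 1) * (w' : G) :=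
        congrArg Subtype.val e
      cases b <;> cases b' <;> simp only [Bool.false_eq_true, if_false, if_true, one_mul] at e'
      · rw [Subtype.ext e']
      · exact absurd ((eq_mul_inv_of_mul_eq e'.symm) ▸ mul_mem w.2 (inv_mem w'.2)) T.t_not_mem_zpowers
      · exact absurd ((eq_mul_inv_of_mul_eq e') ▸ mul_mem w'.2 (inv_mem w.2)) T.t_not_mem_zpowers
      · rw [Subtype.ext (mul_left_cancel e')]
    · rintro ⟨z, hz⟩
      obtain ⟨j, k, rfl⟩ := T.mem_tor_iff.1 hz
      rcases Int.even_or_odd j with ⟨m, rfl⟩ | ⟨m, rfl⟩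
      · refine ⟨(false, ⟨y ^ k, zpow_mem (mem_zpowers y) k⟩), Subtype.ext ?_⟩
        simp [φ, zpow_add, ← (Commute.refl t).mul_zpow, T.fac.tt]
      · refine ⟨(true, ⟨y ^ k, zpow_mem (mem_zpowers y) k⟩), Subtype.ext ?_⟩
        simp [φ, zpow_add, two_mul, ← (Commute.refl t).mul_zpow, T.fac.tt]
  rw [← Nat.card_congr (Equiv.ofBijective φ hφ), Nat.card_prod, Nat.card_zpowers, T.oy]
  simp
  ring

/-- `⟨t, i⟩` is a four group. -/
theorem Torus.card_four (T : Torus F t L a S V i s y) : Nat.card (four t i) = 4 := by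
  have hset : ((four t i : Subgroup G) : Set G) = {1, t, i, t * i} := by
    ext z
    refine ⟨fun hz => ?_, fun hz => ?_⟩
    · simpa using T.four_cases hz
    · have h1 : t ∈ four t i := le_sup_left (b := zpowers i) (mem_zpowers t)
      have h2 : i ∈ four t i := le_sup_right (a := zpowers t) (mem_zpowers i)
      rcases hz with rfl | rfl | rfl | rfl
      exacts [one_mem _, h1, h2, mul_mem h1 h2]
  have ht1 : t ≠ 1 := fun e => T.frame.t_not_mem (e ▸ one_mem V)
  have h3 : t * i ≠ t := fun e => T.i_ne (mul_eq_left.1 e)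
  have h4 : t * i ≠ i := fun e => ht1 (mul_eq_right.1 e)
  rw [show Nat.card (four t i) = ((four t i : Subgroup G) : Set G).ncard from Nat.card_coe_set_eq _,
    hset, Set.ncard_insert_of_notMem (by simp [ht1.symm, T.i_ne.symm, T.ti_ne_one.symm]),
    Set.ncard_insert_of_notMem (by simp [T.t_ne_i, h3.symm]), Set.ncard_pair h4.symm]

end Cfsg.Agent.AbelianSylow.Local
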