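import Cfsg.Agent.Lib.AbelianSylow.Local.PSLData
import Cfsg.Agent.Lib.AbelianSylow.Local.CentOdd
import Cfsg.Agent.Lib.AbelianSylow.Local.Torus

/-!
# Data inside the factor `L` for the section computation (owner: helper80)

* `LFac.card_invol`   : the number of involutions of `L`
* `inverting_count`   : involutions inverting an element of a self-centralising abelian odd subgroup
* `LFac.exists_U`     : the Sylow `p`-subgroup of `L`
* `LFac.exists_T`     : the torus of odd order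
-/

set_option autoImplicit false
set_option linter.unusedSectionVars false
set_option linter.style.haveILetI false

namespace Cfsg.Agent.AbelianSylow.Local

open Cfsg Subgroup AbelianTwoPSL Involution

universe u

variable {G : Type u} [Group G] [Finite G] {F : Type} [Field F] [Fintype F]
variable {t : G} {L : Subgroup G}

/-- Involutions inverting `x ∈ U#`, where `U` is abelian, odd and the centraliser of its elements. -/
theorem inverting_count {K : Type*} [Group K] [Finite K] (U : Subgroup K)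
    (hcomm : ∀ a ∈ U, ∀ b ∈ U, a * b = b * a) (hcent : ∀ a ∈ U, a ≠ 1 → centralizer ({a} : Set K) = U)
    (hodd : Odd (Nat.card U)) {x : K} (hx : x ∈ U) (hx1 : x ≠ 1) :
    (Odd (Nat.card (normalizer (U : Set K))) →
      Nat.card {k : K // k * k = 1 ∧ k * x * k⁻¹ = x⁻¹} = 0) ∧
    (¬ Odd (Nat.card (normalizer (U : Set K))) →
      Nat.card {k : K // k * k = 1 ∧ k * x * k⁻¹ = x⁻¹} = Nat.card U) := by
  classical
  haveI : Fact (Nat.Prime 2) := ⟨Nat.prime_two⟩
  have hoddx : ∀ z ∈ U, Odd (orderOf z) := fun z hz => hodd.of_dvd_nat (U.orderOf_dvd_natCard hz)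
  have hxx : x ≠ x⁻¹ := fun e => hx1 (PSL2.eq_one_of_sq (hoddx x hx) (by
    nth_rewrite 2 [e]; exact mul_inv_cancel x))
  have hnorm : ∀ k : K, k * k = 1 → k * x * k⁻¹ = x⁻¹ → k ∈ normalizer (U : Set K) := by
    intro k _ hk
    refine Coprime.mem_normalizer_of_forall fun z hz => ?_
    rw [← hcent x⁻¹ (inv_mem hx) (inv_ne_one.2 hx1), mem_centralizer_singleton_iff]
    have hzx : Commute z x := hcomm z hz x hx
    have := hzx.map (MulAut.conj k).toMonoidHom
    simp only [MulEquiv.coe_toMonoidHom, MulAut.conj_apply, hk] at this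
    exact this.eq
  constructor
  · intro hN
    haveI : IsEmpty {k : K // k * k = 1 ∧ k * x * k⁻¹ = x⁻¹} := ⟨fun ⟨k, hk, hkx⟩ => by
      have hk1 : k ≠ 1 := fun e => hxx (by simpa [e] using hkx)
      have h2 := (hN.of_dvd_nat (Subgroup.orderOf_dvd_natCard _ (hnorm k hk hkx)))
      exact hk1 (PSL2.eq_one_of_sq h2 hk)⟩
    exact Nat.card_of_isEmpty
  · intro hN
    rw [Nat.not_odd_iff_even, even_iff_two_dvd] at hN
    obtain ⟨⟨j, hjN⟩, hj⟩ := exists_prime_orderOf_dvd_card' 2 hN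
    rw [← orderOf_coe] at hj
    have hj2 : j * j = 1 := mul_self hj
    have hjinv : ∀ z ∈ U, j * z * j⁻¹ = z⁻¹ := by
      intro z hz
      have hzj : j * z * j⁻¹ ∈ U := (mem_normalizer_iff.1 hjN z).1 hz
      have hfix : Commute j (z * (j * z * j⁻¹)) := mul_inv_eq_iff_eq_mul.1 (by
        rw [← conj_mul, show j * (j * z * j⁻¹) * j⁻¹ = (j * j) * z * (j * j)⁻¹ by group, hj2, one_mul,
          inv_one, mul_one]
        exact hcomm _ hzj _ hz)
      by_contra hne
      have hw1 : z * (j * z * j⁻¹) ≠ 1 := fun e => hne (eq_inv_of_mul_eq_one_right e)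
      have hjU : j ∈ U := (hcent _ (mul_mem hz hzj) hw1).le (mem_centralizer_singleton_iff.2 hfix.eq)
      have := hoddx j hjU
      rw [hj] at this
      exact absurd this (by decide)
    have hji : j⁻¹ = j := inv_eq_of_mul_eq_one_right hj2
    refine (Nat.card_congr (Equiv.ofBijective (fun z : U => (⟨j * z, ?_, ?_⟩ : {k : K // k * k = 1 ∧ k * x * k⁻¹ = x⁻¹}))
      ⟨fun a b e => Subtype.ext (mul_left_cancel (congrArg Subtype.val e :)), ?_⟩)).symm
    · calc j * (z : K) * (j * z) = (j * z * j⁻¹) * ((j * j) * z) := by group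
        _ = 1 := by rw [hjinv z z.2, hj2, one_mul, inv_mul_cancel]
    · rw [show j * (z : K) * x * (j * z)⁻¹ = j * (z * x * (z : K)⁻¹) * j⁻¹ by group, hcomm z z.2 x hx,
        mul_inv_cancel_right, hjinv x hx]
    · rintro ⟨k, hk, hkx⟩
      have hmem : j * k ∈ U := by
        rw [← hcent x hx hx1, mem_centralizer_singleton_iff]
        refine mul_inv_eq_iff_eq_mul.1 ?_
        rw [show j * k * x * (j * k)⁻¹ = j * (k * x * k⁻¹) * j⁻¹ by group, hkx, hjinv _ (inv_mem hx), inv_inv]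
      exact ⟨⟨j * k, hmem⟩, Subtype.ext (by show j * (j * k) = k; rw [← mul_assoc, hj2, one_mul])⟩

/-- The number of involutions of `L`. -/
theorem LFac.card_invol (h : LFac t F L) {a : ℕ}
    (hq : (Fintype.card F % 8 = 3 ∧ Fintype.card F + 1 = 4 * a) ∨
      (Fintype.card F % 8 = 5 ∧ Fintype.card F = 4 * a + 1)) :
    Nat.card {k : L // orderOf k = 2} * (4 * a) = Nat.card L := by
  classical
  obtain ⟨e⟩ := h.iso
  obtain ⟨i₀, hi₀⟩ := h.ctx.data.exists_involution
  let T := {k : L // orderOf k = 2}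
  letI : MulAction L T :=
    { smul := fun g k => ⟨g * k.1 * g⁻¹, by rw [orderOf_conj]; exact k.2⟩
      one_smul := fun k => Subtype.ext (by show (1 : L) * k.1 * (1 : L)⁻¹ = k.1; group)
      mul_smul := fun m n k => Subtype.ext (by
        show m * n * k.1 * (m * n)⁻¹ = m * (n * k.1 * n⁻¹) * m⁻¹; group) }
  haveI : MulAction.IsPretransitive L T := ⟨fun x z => by
    obtain ⟨g, hg⟩ := isConj_iff.1 (h.ctx.data.conj x.1 z.1 x.2 z.2)
    exact ⟨g, Subtype.ext hg⟩⟩
  have hstab : Nat.card (MulAction.stabilizer L (⟨i₀, hi₀⟩ : T)) = 4 * a := by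
    rw [← card_cent_psl hq (x := e i₀) (by rw [MulEquiv.orderOf_eq, hi₀])]
    refine Nat.card_congr (e.toEquiv.subtypeEquiv fun z => ?_)
    rw [MulAction.mem_stabilizer_iff, mem_centralizer_singleton_iff]
    constructor
    · intro hz
      have h1 : z * i₀ * z⁻¹ = i₀ := congrArg Subtype.val hz
      show e z * e i₀ = e i₀ * e z
      rw [← map_mul, ← map_mul, mul_inv_eq_iff_eq_mul.1 h1]
    · intro hz
      have h1 : z * i₀ = i₀ * z := e.injective (by rw [map_mul, map_mul]; exact hz)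
      exact Subtype.ext (mul_inv_eq_iff_eq_mul.2 h1)
  rw [← hstab, ← MulAction.index_stabilizer_of_transitive L (⟨i₀, hi₀⟩ : T), mul_comm]
  exact card_mul_index _

/-- The Sylow `p`-subgroup of `L`, with the numbers of the section computation. -/
theorem LFac.exists_U (h : LFac t F L) : ∃ U : Subgroup G, U ≤ L ∧ Nat.card U = Fintype.card F ∧
    (∀ x ∈ U, ∀ z ∈ U, x * z = z * x) ∧ (∀ x ∈ U, x ≠ 1 → ∀ k ∈ L, Commute k x → k ∈ U) ∧
    2 * Nat.card {k : L // ∀ x ∈ U, (k : G) * x * (k : G)⁻¹ ∈ U} =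
      Fintype.card F * (Fintype.card F - 1) ∧
    ∀ x ∈ U, x ≠ 1 →
      (Fintype.card F % 8 = 3 →
        Nat.card {k : L // k * k = 1 ∧ (k : G) * x * (k : G)⁻¹ = x⁻¹} = 0) ∧
      (Fintype.card F % 8 = 5 →
        Nat.card {k : L // k * k = 1 ∧ (k : G) * x * (k : G)⁻¹ = x⁻¹} = Fintype.card F) := by
  classical
  obtain ⟨e⟩ := h.iso
  obtain ⟨p, hp⟩ := CharP.exists F
  haveI : Fact p.Prime := ⟨CharP.char_is_prime F p⟩
  obtain ⟨W, hW, hcomm, -, hcent, hN⟩ := exists_unipotent (F := F) p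
  have hc : Nat.card F = Fintype.card F := Nat.card_eq_fintype_card
  have h8 := h.data.mod8
  have hg : Nat.gcd 2 (Nat.card F - 1) = 2 := Nat.gcd_eq_left (by omega)
  rw [hg, hc] at hN
  rw [hc] at hW
  set W' := W.comap e.toMonoidHom
  have hmem : ∀ k : L, k ∈ W' ↔ e k ∈ W := fun k => Iff.rfl
  have hcardW' : Nat.card W' = Fintype.card F := by
    rw [← hW]; exact Nat.card_congr (e.toEquiv.subtypeEquiv fun k => hmem k)
  have hcomm' : ∀ x ∈ W', ∀ z ∈ W', x * z = z * x := fun x hx z hz => e.injective (by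
    rw [map_mul, map_mul]; exact hcomm _ hx _ hz)
  have hcent' : ∀ x ∈ W', x ≠ 1 → centralizer ({x} : Set L) = W' := by
    intro x hx hx1
    ext k
    rw [hmem, ← hcent (e x) hx (fun hh => hx1 (e.injective (by rw [hh, map_one]))),
      mem_centralizer_singleton_iff, mem_centralizer_singleton_iff, ← map_mul, ← map_mul, e.injective.eq_iff]
  have hNcard : 2 * Nat.card (normalizer (W' : Set L)) = Fintype.card F * (Fintype.card F - 1) := by
    rw [← hN]
    congr 1
    refine Nat.card_congr (e.toEquiv.subtypeEquiv fun k => ?_)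
    rw [mem_normalizer_iff, mem_normalizer_iff]
    constructor
    · intro hk z
      obtain ⟨z, rfl⟩ := e.surjective z
      show e z ∈ W ↔ e k * e z * (e k)⁻¹ ∈ W
      rw [← map_inv, ← map_mul, ← map_mul, ← hmem, ← hmem]
      exact hk z
    · intro hk z
      rw [hmem, hmem, map_mul, map_mul, map_inv]
      exact hk (e z)
  set U := W'.map L.subtype
  have hUmem : ∀ k : L, (k : G) ∈ U ↔ k ∈ W' := fun k => mem_map_iff_mem L.subtype_injective
  refine ⟨U, map_subtype_le _, by rw [card_map_of_injective L.subtype_injective, hcardW'], ?_, ?_, ?_, ?_⟩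
  · rintro _ ⟨x, hx, rfl⟩ _ ⟨z, hz, rfl⟩
    exact congrArg Subtype.val (hcomm' x hx z hz)
  · rintro _ ⟨x, hx, rfl⟩ hx1 k hk hkx
    refine (hUmem ⟨k, hk⟩).2 ?_
    rw [← hcent' x hx (fun e => hx1 (by rw [e, map_one])), mem_centralizer_singleton_iff]
    exact Subtype.ext hkx.eq
  · rw [← hNcard]
    congr 1
    refine Nat.card_congr (Equiv.subtypeEquivRight fun k => ⟨fun hk => ?_, fun hk => ?_⟩)
    · refine Coprime.mem_normalizer_of_forall fun z hz => (hUmem _).1 ?_
      have := hk _ ((hUmem z).2 hz)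
      simpa using this
    · rintro _ ⟨z, hz, rfl⟩
      exact (hUmem (k * z * k⁻¹)).2 ((mem_normalizer_iff.1 hk z).1 hz)
  · rintro _ ⟨x, hx, rfl⟩ hx1
    have hx1' : x ≠ 1 := fun e => hx1 (by rw [e, map_one])
    obtain ⟨hodd, heven⟩ := inverting_count W' hcomm' hcent'
      (by rw [hcardW', Nat.odd_iff]; omega) hx hx1'
    have hcong : Nat.card {k : L // k * k = 1 ∧ (k : G) * (x : G) * (k : G)⁻¹ = (x : G)⁻¹} =
        Nat.card {k : L // k * k = 1 ∧ k * x * k⁻¹ = x⁻¹} :=
      Nat.card_congr (Equiv.subtypeEquivRight fun k => and_congr_right fun _ =>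
        ⟨fun hh => Subtype.ext (by simpa using hh), fun hh => by simpa using congrArg Subtype.val hh⟩)
    refine ⟨fun h3 => hcong.trans (hodd ?_), fun h5 => hcong.trans ((heven ?_).trans hcardW')⟩
    · -- `q (q - 1) / 2` is odd
      have hqodd : Odd (Fintype.card F) := by rw [Nat.odd_iff]; omega
      rw [Nat.odd_iff]
      by_contra hne
      obtain ⟨c, hc2⟩ : 2 ∣ Nat.card (normalizer (W' : Set L)) := by omega
      rw [hc2, ← mul_assoc] at hNcard
      have h4 : 4 ∣ Fintype.card F * (Fintype.card F - 1) := ⟨c, hNcard.symm⟩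
      have hcop : Nat.Coprime 4 (Fintype.card F) :=
        (Nat.Coprime.pow_left 2 (Nat.coprime_two_left.2 hqodd) : Nat.Coprime (2 ^ 2) (Fintype.card F))
      have := hcop.dvd_of_dvd_mul_left h4
      omega
    · intro hN'
      obtain ⟨j, hj⟩ := hN'
      have h4 : 4 ∣ Fintype.card F * (Fintype.card F - 1) := dvd_mul_of_dvd_right (by omega) _
      rw [← hNcard, hj] at h4
      omega

/-- The torus of odd order. -/
theorem LFac.exists_T (h : LFac t F L) (h13 : 13 ≤ Fintype.card F) {b : ℕ}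
    (hb : (Fintype.card F % 8 = 3 ∧ Fintype.card F = 2 * b + 1) ∨
      (Fintype.card F % 8 = 5 ∧ Fintype.card F + 1 = 2 * b)) :
    ∃ T : Subgroup G, T ≤ L ∧ Nat.card T = b ∧ (∀ x ∈ T, ∀ z ∈ T, x * z = z * x) ∧
      (∀ x ∈ T, x ≠ 1 → ∀ k ∈ L, Commute k x → k ∈ T) ∧
      (∀ x ∈ T, x ≠ 1 → ∀ k ∈ L, k * x * k⁻¹ ∈ T → k * x * k⁻¹ = x ∨ k * x * k⁻¹ = x⁻¹) ∧
      ∃ k ∈ L, k * k = 1 ∧ k ∉ T ∧ ∀ x ∈ T, k * x * k⁻¹ = x⁻¹ := by
  classical
  obtain ⟨g, hgL, hg⟩ := h.exists_coTorus hb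
  obtain ⟨e⟩ := h.iso
  obtain ⟨p, hp⟩ := CharP.exists F
  haveI : Fact p.Prime := ⟨CharP.char_is_prime F p⟩
  have hc : Nat.card F = Fintype.card F := Nat.card_eq_fintype_card
  have hgcd : Nat.gcd 2 (Nat.card F - 1) = 2 := Nat.gcd_eq_left (by omega)
  have hbodd : Odd b := by rw [Nat.odd_iff]; omega
  have hcomm : ∀ x ∈ zpowers g, ∀ z ∈ zpowers g, x * z = z * x := by
    rintro _ ⟨i, rfl⟩ _ ⟨j, rfl⟩
    exact ((Commute.refl g).zpow_zpow i j).eq
  have hTle : zpowers g ≤ L := zpowers_le.2 hgL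
  have heg : orderOf (e ⟨g, hgL⟩) = b := by rw [MulEquiv.orderOf_eq, ← orderOf_coe, hg]
  refine ⟨zpowers g, hTle, by rw [Nat.card_zpowers, hg], hcomm, fun x hx hx1 k hk hkx => ?_,
    fun x hx _ k hk hkx => ?_, ?_⟩
  · obtain ⟨g', -, hg', -, hC⟩ := h.cent_inf_coTorus hb (hTle hx) (hg ▸ orderOf_dvd_of_mem_zpowers hx) hx1
    have heq : zpowers g = zpowers g' := eq_of_le_of_card_ge (zpowers_le.2 (hC.le
        ⟨mem_centralizer_singleton_iff.2 (hcomm g (mem_zpowers g) x hx), hgL⟩))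
      (by rw [Nat.card_zpowers, Nat.card_zpowers, hg, hg'])
    rw [heq, ← hC]
    exact ⟨mem_centralizer_singleton_iff.2 hkx.eq, hk⟩
  · obtain ⟨i, hi⟩ := hx
    obtain ⟨j, hj⟩ := hkx
    simp only at hi hj
    have h1 : e ⟨x, hi ▸ zpow_mem hgL i⟩ ∈ zpowers (e ⟨g, hgL⟩) := ⟨i, by
      show e ⟨g, hgL⟩ ^ i = _
      rw [← map_zpow]
      exact congrArg e (Subtype.ext (by rw [Subgroup.coe_zpow]; exact hi))⟩
    have h2 : e ⟨k, hk⟩ * e ⟨x, hi ▸ zpow_mem hgL i⟩ * (e ⟨k, hk⟩)⁻¹ ∈ zpowers (e ⟨g, hgL⟩) := ⟨j, by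
      show e ⟨g, hgL⟩ ^ j = _
      rw [← map_zpow, ← map_inv, ← map_mul, ← map_mul]
      exact congrArg e (Subtype.ext (by rw [Subgroup.coe_zpow]; exact hj))⟩
    have hy : orderOf (e ⟨g, hgL⟩) = (Nat.card F - 1) / Nat.gcd 2 (Nat.card F - 1) ∨
        orderOf (e ⟨g, hgL⟩) = (Nat.card F + 1) / Nat.gcd 2 (Nat.card F - 1) := by
      rw [heg, hgcd]; omega
    rcases torus_conj_cases p hy (heg.symm ▸ hbodd) h1 h2 with e1 | e1
    · left
      rw [← map_inv, ← map_mul, ← map_mul] at e1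
      exact congrArg Subtype.val (e.injective e1)
    · right
      rw [← map_inv, ← map_mul, ← map_mul, ← map_inv] at e1
      exact congrArg Subtype.val (e.injective e1)
  · have hnd : ¬ orderOf (e ⟨g, hgL⟩) ∣ p := fun hd => by
      rw [heg] at hd
      have hpq : p ∣ Fintype.card F := by
        obtain ⟨n, _, hn⟩ := FiniteField.card F p
        exact hn ▸ dvd_pow_self p n.pos.ne'
      rcases (Nat.dvd_prime (Fact.out : p.Prime)).1 hd with e' | e'
      · omega
      · subst e'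
        have h1 : b ∣ 1 := by
          rcases hb with ⟨_, e1⟩ | ⟨_, e1⟩
          · exact (Nat.dvd_add_right (dvd_mul_left b 2)).1 (e1 ▸ hpq)
          · exact (Nat.dvd_add_right hpq).1 (e1 ▸ dvd_mul_left b 2)
        have := Nat.le_of_dvd one_pos h1
        omega
    obtain ⟨w, hw2, hw⟩ := PSL2.exists_inverting p hnd
    set k : L := e.symm w
    have hk2 : k * k = 1 := by rw [← map_mul, hw2, map_one]
    have hkg : k * ⟨g, hgL⟩ * k⁻¹ = (⟨g, hgL⟩ : L)⁻¹ := e.injective (by
      rw [map_mul, map_mul, map_inv, map_inv, e.apply_symm_apply, hw])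
    have hkg' : (k : G) * g * (k : G)⁻¹ = g⁻¹ := by simpa using congrArg Subtype.val hkg
    refine ⟨k, k.2, by simpa using congrArg Subtype.val hk2, fun hk => ?_, ?_⟩
    · rw [hcomm k hk g (mem_zpowers g), mul_inv_cancel_right, eq_inv_iff_mul_eq_one, ← pow_two,
        ← orderOf_dvd_iff_pow_eq_one, hg] at hkg'
      have := Nat.le_of_dvd two_pos hkg'
      omega
    · rintro _ ⟨i, rfl⟩
      show (k : G) * g ^ i * (k : G)⁻¹ = (g ^ i)⁻¹
      rw [← conj_zpow, hkg', inv_zpow]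

end Cfsg.Agent.AbelianSylow.Local
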