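import Cfsg.Agent.Lib.AbelianSylow.Targets
import Cfsg.Agent.Lib.AbelianTwoPSL.Fusion
import Cfsg.Agent.Lib.PSL2.Centralizers

/-!
# Local facts in the Janko-Thompson situation: the basic ones (owner: helper80)

`h : LFac t F L` : `L` is the factor `PSL₂(q)` of the centraliser of `t`.

* `exists_lfac`           : such a factor exists
* `LFac.conj_invol`       : one class of involutions
* `LFac.cent_sylow`       : a Sylow 2-subgroup is self-centralising
* `LFac.card_cent`        : the order of the centraliser of an involution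
* `LFac.card_normalizer_sylow` : the Sylow 2-normaliser has order 168
-/

set_option autoImplicit false
set_option linter.unusedSectionVars false
set_option linter.style.haveILetI false

namespace Cfsg.Agent.AbelianSylow.Local

open Cfsg Subgroup AbelianTwoPSL

universe u

variable {G : Type u} [Group G] [Finite G] {F : Type} [Field F] [Fintype F]

/-- The `PSL₂(q)` factor of the centraliser of `t`. -/
structure LFac (t : G) (F : Type) [Field F] [Fintype F] (L : Subgroup G) : Prop where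
  data : JTData G t F
  iso : Nonempty (↥L ≃* PSL2.PSL2 F)
  ctx : Ctx t L L

theorem odd_field {t : G} (hJ : JTData G t F) : Odd (Nat.card F) := by
  rw [Nat.card_eq_fintype_card, Nat.odd_iff]
  have := hJ.mod8
  omega

theorem sylow_comm {t : G} (hJ : JTData G t F) (P : Sylow 2 G) :
    ∀ a ∈ (P : Subgroup G), ∀ b ∈ (P : Subgroup G), Commute a b := fun a ha b hb => by
  haveI := (hJ.sylow P).1.1
  exact congrArg Subtype.val (mul_comm' (⟨a, ha⟩ : (P : Subgroup G)) ⟨b, hb⟩)

theorem zmod_two_cases : ∀ i j : Multiplicative (ZMod 2), j ≠ 1 → i = 1 ∨ i = j := by decide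

theorem exists_lfac {t : G} (hJ : JTData G t F) : ∃ L : Subgroup G, LFac t F L := by
  classical
  haveI : Fact (Nat.Prime 2) := ⟨Nat.prime_two⟩
  obtain ⟨e⟩ := hJ.cent
  set C := centralizer ({t} : Set G)
  let ι : Matrix.ProjectiveSpecialLinearGroup (Fin 2) F →* G :=
    C.subtype.comp (e.symm.toMonoidHom.comp (MonoidHom.inr _ _))
  have hι : Function.Injective ι := C.subtype_injective.comp
    (e.symm.injective.comp fun a b h => (Prod.mk.inj h).2)
  set L := ι.range with hL
  have hiso : ↥L ≃* PSL2.PSL2 F := (MonoidHom.ofInjective hι).symm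
  have hD : PSL2.FourData L := by
    refine (PSL2.fourData (odd_field hJ) fun P => ?_).of_equiv hiso
    obtain ⟨Q, hQ⟩ := (P.2.map ι).exists_le_sylow
    refine ⟨⟨fun a b => Subtype.ext (hι ?_)⟩⟩
    have h := sylow_comm hJ Q _ (hQ (mem_map_of_mem ι a.2)) _ (hQ (mem_map_of_mem ι b.2))
    simpa only [map_mul, Subgroup.coe_mul] using h.eq
  have hcenter : ∀ z : L, (∀ x : L, Commute z x) → z = 1 := by
    intro z hz
    by_contra hz1
    obtain ⟨P⟩ : Nonempty (Sylow 2 L) := inferInstance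
    haveI := hD.sylow P
    have hzP : z ∈ (P : Subgroup L) := hD.cent _ (hD.sylow P) z fun v _ => hz v
    have hz2 : orderOf z = 2 := orderOf_eq_prime (by
      rw [pow_two]; exact congrArg Subtype.val (IsKleinFour.mul_self (⟨z, hzP⟩ : (P : Subgroup L)))) hz1
    obtain ⟨v, hv, hvz⟩ : ∃ v : L, orderOf v = 2 ∧ v ≠ z := by
      by_contra hcon
      push Not at hcon
      have h4 := (hD.sylow P).card_four
      have : Nat.card (P : Subgroup L) ≤ 2 := by
        refine (Nat.card_le_card_of_injective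
          (fun w : (P : Subgroup L) => (⟨(w : L), ?_⟩ : ({1, z} : Set L))) fun a b h => ?_).trans ?_
        · by_cases hw : (w : L) = 1
          · exact Or.inl hw
          · exact Or.inr (hcon _ (orderOf_eq_prime (by
              rw [pow_two]; exact congrArg Subtype.val (IsKleinFour.mul_self w)) hw))
        · exact Subtype.ext (congrArg Subtype.val h :)
        · rw [Nat.card_coe_set_eq]; exact (Set.ncard_insert_le _ _).trans (by simp)
      omega
    obtain ⟨g, hg⟩ := isConj_iff.1 (hD.conj z v hz2 hv)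
    exact hvz (by rw [← hg, ← (hz g).eq, mul_inv_cancel_right])
  have hLt : ∀ x ∈ L, Commute x t := by
    rintro _ ⟨a, rfl⟩
    exact mem_centralizer_singleton_iff.1 (e.symm (1, a)).2
  have htC : t ∈ C := mem_centralizer_singleton_iff.2 rfl
  have het2 : (e ⟨t, htC⟩).2 = 1 := by
    have hc : ∀ a, Commute (e ⟨t, htC⟩).2 a := fun a => by
      obtain ⟨z, hz⟩ := e.surjective (1, a)
      have h1 : e ⟨t, htC⟩ * e z = e z * e ⟨t, htC⟩ := by
        rw [← map_mul, ← map_mul]
        exact congrArg e (Subtype.ext (mem_centralizer_singleton_iff.1 z.2).symm)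
      rw [hz] at h1
      exact congrArg Prod.snd h1
    have := hcenter (hiso.symm (e ⟨t, htC⟩).2) fun x => by
      obtain ⟨a, rfl⟩ := hiso.symm.surjective x
      exact (hc a).map hiso.symm
    simpa using this
  have htL : t ∉ L := by
    rintro ⟨a, ha⟩
    have h1 : (⟨t, htC⟩ : C) = e.symm (1, a) := Subtype.ext ha.symm
    have h2 : e ⟨t, htC⟩ = (1, a) := by rw [h1, e.apply_symm_apply]
    rw [h2] at het2
    have h3 : t = 1 := by rw [← ha, show a = 1 from het2, map_one]
    have := hJ.invol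
    rw [h3, orderOf_one] at this
    omega
  have het1 : (e ⟨t, htC⟩).1 ≠ 1 := by
    intro h1
    have : (⟨t, htC⟩ : C) = 1 := e.injective (by rw [map_one]; exact Prod.ext h1 het2)
    have := hJ.invol
    rw [show t = 1 from congrArg Subtype.val ‹(⟨t, htC⟩ : C) = 1›, orderOf_one] at this
    omega
  refine ⟨L, hJ, ⟨hiso⟩, hJ.invol, htL, hLt, fun c hc => ?_, le_rfl,
    fun a ha x hx => mul_mem (mul_mem ha hx) (inv_mem ha), hD,
    fun a ha h => congrArg Subtype.val (hcenter ⟨a, ha⟩ fun x => Subtype.ext (h x x.2).eq),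
    fun P => sylow_comm hJ P⟩
  obtain ⟨z, hz⟩ : ∃ z : C, (z : G) = c := ⟨⟨c, mem_centralizer_singleton_iff.2 hc.eq⟩, rfl⟩
  have hz2 : ∀ i : Multiplicative (ZMod 2), i = 1 ∨ i = (e ⟨t, htC⟩).1 := fun i => by
    exact zmod_two_cases _ _ het1
  rcases hz2 (e z).1 with h1 | h1
  · refine Or.inl ⟨(e z).2, ?_⟩
    rw [← hz]
    show ((e.symm (1, (e z).2) : C) : G) = z
    rw [show ((1 : Multiplicative (ZMod 2)), (e z).2) = e z from Prod.ext h1.symm rfl, e.symm_apply_apply]
  · refine Or.inr ⟨_, ⟨(e z).2, rfl⟩, ?_⟩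
    rw [← hz]
    show (z : G) = t * ((e.symm (1, (e z).2) : C) : G)
    have h2 : e z = e ⟨t, htC⟩ * (1, (e z).2) :=
      Prod.ext (by rw [Prod.fst_mul, mul_one, h1]) (by rw [Prod.snd_mul, het2, one_mul])
    have h3 : z = ⟨t, htC⟩ * e.symm (1, (e z).2) := e.injective (by
      rw [map_mul, e.apply_symm_apply]; exact h2)
    exact congrArg Subtype.val h3

variable {t : G} {L : Subgroup G}

theorem LFac.tt (h : LFac t F L) : t * t = 1 := h.ctx.mul_self_t

theorem LFac.card_L (h : LFac t F L) :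
    2 * Nat.card L = Fintype.card F * ((Fintype.card F + 1) * (Fintype.card F - 1)) := by
  obtain ⟨e⟩ := h.iso
  have h8 := h.data.mod8
  have hc := PSL2.card_psl_mul (F := F)
  rw [Nat.card_eq_fintype_card (α := F), Nat.gcd_eq_left (by omega : 2 ∣ Fintype.card F - 1)] at hc
  rw [Nat.card_congr e.toEquiv, hc]

/-- The order of the centraliser of `t`. -/
theorem LFac.card_cent (h : LFac t F L) :
    Nat.card (centralizer ({t} : Set G)) =
      Fintype.card F * ((Fintype.card F + 1) * (Fintype.card F - 1)) := by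
  obtain ⟨e⟩ := h.data.cent
  obtain ⟨f⟩ := h.iso
  rw [← h.card_L, Nat.card_congr e.toEquiv, Nat.card_prod, Nat.card_congr f.toEquiv]
  simp

/-- All involutions are conjugate. -/
theorem LFac.conj_invol (h : LFac t F L) {x : G} (hx : orderOf x = 2) :
    ∃ g : G, g * t * g⁻¹ = x := by
  haveI : Fact (Nat.Prime 2) := ⟨Nat.prime_two⟩
  haveI := h.data.simple
  obtain ⟨A, V, f⟩ := h.ctx.exists_frame
  obtain ⟨Q, hQ⟩ := (IsPGroup.of_card (G := zpowers x) (p := 2) (n := 1)
    (by rw [Nat.card_zpowers, hx, pow_one])).exists_le_sylow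
  obtain ⟨c, hc⟩ := MulAction.exists_smul_eq G Q A
  have hxA : c * x * c⁻¹ ∈ (A : Subgroup G) := by
    rw [← hc, Sylow.coe_subgroup_smul]
    exact mem_map.2 ⟨x, hQ (mem_zpowers x), rfl⟩
  obtain ⟨g, hg⟩ := f.conjugate h.data.nonab hxA fun e => by
    rw [conj_eq_one_iff] at e
    rw [e, orderOf_one] at hx
    omega
  exact ⟨c⁻¹ * g, by rw [show c⁻¹ * g * t * (c⁻¹ * g)⁻¹ = c⁻¹ * (g * t * g⁻¹) * c by group, hg]; group⟩

/-- An element of `L` centralising a Klein four subgroup of `L` lies in it. -/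
theorem LFac.mem_of_centralizes (h : LFac t F L) {V : Subgroup G} (hk : IsKleinFour (V.subgroupOf L))
    {z : G} (hz : z ∈ L) (hc : ∀ v ∈ V, Commute z v) : z ∈ V :=
  h.ctx.data.cent _ hk ⟨z, hz⟩ fun _ hv => Subtype.ext (hc _ hv).eq

theorem LFac.frame_cent (h : LFac t F L) {A : Sylow 2 G} {V : Subgroup G} (f : Frame t L L A V) {z : G}
    (hz : ∀ a ∈ (A : Subgroup G), Commute z a) : z ∈ (A : Subgroup G) := by
  rcases h.ctx.split z (hz t f.htA) with hzL | ⟨w, hw, rfl⟩
  · exact f.memA (h.mem_of_centralizes f.four hzL fun v hv => hz v (f.memA hv))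
  · refine mul_mem f.htA (f.memA (h.mem_of_centralizes f.four hw fun v hv => ?_))
    have h1 := hz v (f.memA hv)
    have h2 : Commute t v := (f.commute_V hv).symm
    have : Commute (t * (t * w)) v := h2.mul_left h1
    rwa [← mul_assoc, h.tt, one_mul] at this

/-- Sylow 2-subgroups are self-centralising. -/
theorem LFac.cent_sylow (h : LFac t F L) (P : Sylow 2 G) :
    centralizer ((P : Subgroup G) : Set G) = (P : Subgroup G) := by
  haveI : Fact (Nat.Prime 2) := ⟨Nat.prime_two⟩
  obtain ⟨A, V, f⟩ := h.ctx.exists_frame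
  obtain ⟨c, rfl⟩ := MulAction.exists_smul_eq G A P
  refine le_antisymm (fun z hz => ?_) fun a ha =>
    mem_centralizer_iff.2 fun b hb => (sylow_comm h.data _ b hb a ha).eq
  rw [Sylow.coe_subgroup_smul]
  refine mem_map.2 ⟨c⁻¹ * z * c, h.frame_cent f fun a ha => ?_, by simp [mul_assoc]⟩
  have h1 : (c * a * c⁻¹) * z = z * (c * a * c⁻¹) := mem_centralizer_iff.1 hz _ (by
    rw [SetLike.mem_coe, Sylow.coe_subgroup_smul]; exact mem_map.2 ⟨a, ha, rfl⟩)
  show c⁻¹ * z * c * a = a * (c⁻¹ * z * c)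
  calc c⁻¹ * z * c * a = c⁻¹ * (z * (c * a * c⁻¹)) * c := by group
    _ = c⁻¹ * ((c * a * c⁻¹) * z) * c := by rw [h1]
    _ = _ := by group

/-- The normaliser of a Sylow 2-subgroup is transitive on its involutions. -/
theorem LFac.normalizer_trans (h : LFac t F L) (P : Sylow 2 G) {a b : G} (ha : a ∈ (P : Subgroup G))
    (ha1 : a ≠ 1) (hb : b ∈ (P : Subgroup G)) (hb1 : b ≠ 1) :
    ∃ n ∈ normalizer ((P : Subgroup G) : Set G), n * a * n⁻¹ = b := by
  haveI : Fact (Nat.Prime 2) := ⟨Nat.prime_two⟩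
  haveI : IsMulCommutative (P : Subgroup G) :=
    ⟨⟨fun x y => Subtype.ext (sylow_comm h.data P x x.2 y y.2).eq⟩⟩
  have ho : ∀ x ∈ (P : Subgroup G), x ≠ 1 → orderOf x = 2 := fun x hx hx1 =>
    orderOf_eq_prime ((h.data.sylow P).1.2 x hx) hx1
  obtain ⟨g, hg⟩ := h.conj_invol (ho a ha ha1)
  obtain ⟨k, hk⟩ := h.conj_invol (ho b hb hb1)
  have hab : (k * g⁻¹) * a * (k * g⁻¹)⁻¹ = b := by rw [← hg, ← hk]; group
  obtain ⟨n, hn, he⟩ := P.conj_eq_normalizer_conj_of_mem a (k * g⁻¹)⁻¹ ha (by rwa [inv_inv, hab])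
  rw [inv_inv, hab] at he
  exact ⟨n⁻¹, inv_mem hn, by rw [inv_inv]; exact he.symm⟩

/-- What normalises the frame in `L`. -/
theorem LFac.card_normalizer_four (h : LFac t F L) {A : Sylow 2 G} {V : Subgroup G}
    (f : Frame t L L A V) : Nat.card ↥(normalizer (V.subgroupOf L : Set L)) = 12 := by
  classical
  haveI : Fact (Nat.Prime 2) := ⟨Nat.prime_two⟩
  haveI := f.four
  set W := V.subgroupOf L with hW
  set N := normalizer (W : Set L)
  obtain ⟨P, hP⟩ := (IsPGroup.of_card (G := W) (p := 2) (n := 2)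
    (by rw [IsKleinFour.card_four]; norm_num)).exists_le_sylow
  have hPW : (P : Subgroup L) = W :=
    (eq_of_le_of_card_ge hP (by rw [(h.ctx.data.sylow P).card_four, IsKleinFour.card_four])).symm
  have hWN : W ≤ N := le_normalizer
  -- the three involutions
  have hS : ∃ a b : L, a ∈ W ∧ b ∈ W ∧ a ≠ 1 ∧ b ≠ 1 ∧ a ≠ b := by
    have := Fintype.ofFinite W
    have hc : 1 < Fintype.card {v : W // v ≠ 1} := by
      rw [Fintype.card_subtype_compl, Fintype.card_subtype_eq, ← Nat.card_eq_fintype_card,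
        IsKleinFour.card_four]
      norm_num
    obtain ⟨a, b, hab⟩ := Fintype.exists_pair_of_one_lt_card hc
    exact ⟨a.1, b.1, a.1.2, b.1.2, fun e => a.2 (Subtype.ext e), fun e => b.2 (Subtype.ext e),
      fun e => hab (Subtype.ext (Subtype.ext e))⟩
  obtain ⟨a, b, ha, hb, ha1, hb1, hab⟩ := hS
  let T := {v : L // v ∈ W ∧ v ≠ 1}
  have hT : Nat.card T = 3 := by
    have := Fintype.ofFinite W
    rw [← Nat.card_congr (Equiv.subtypeSubtypeEquivSubtypeInter (fun v => v ∈ W) fun v => v ≠ 1),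
      Nat.card_eq_fintype_card]
    rw [Fintype.card_congr (Equiv.subtypeEquivRight (q := fun v : W => v ≠ 1) fun v => by
      simp), Fintype.card_subtype_compl, Fintype.card_subtype_eq, ← Nat.card_eq_fintype_card,
      IsKleinFour.card_four]
  letI : MulAction N T :=
    { smul := fun n v => ⟨(n : L) * v.1 * (n : L)⁻¹, (mem_normalizer_iff.1 n.2 v.1).1 v.2.1,
        fun e => v.2.2 (conj_eq_one_iff.1 e)⟩
      one_smul := fun v => Subtype.ext (by show (1 : L) * v.1 * (1 : L)⁻¹ = v.1; group)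
      mul_smul := fun m n v => Subtype.ext (by
        show (m : L) * n * v.1 * ((m : L) * n)⁻¹ = m * (n * v.1 * (n : L)⁻¹) * (m : L)⁻¹; group) }
  set ψ := MulAction.toPermHom N T
  have hker : ψ.ker = W.subgroupOf N := by
    ext n
    rw [MonoidHom.mem_ker, mem_subgroupOf]
    refine ⟨fun hn => h.ctx.data.cent _ f.four _ fun v hv => ?_, fun hn => Equiv.ext fun v => ?_⟩
    · by_cases hv1 : v = 1
      · exact hv1 ▸ Commute.one_right _
      have := congrArg Subtype.val (Equiv.congr_fun hn ⟨v, hv, hv1⟩)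
      exact mul_inv_eq_iff_eq_mul.1 this
    · refine Subtype.ext ?_
      show (n : L) * v.1 * (n : L)⁻¹ = v.1
      haveI : IsMulCommutative W := ⟨⟨mul_comm_of_exponent_two IsKleinFour.exponent_two⟩⟩
      rw [show (n : L) * v.1 = v.1 * n from congrArg Subtype.val (mul_comm' (⟨_, hn⟩ : W) ⟨v.1, v.2.1⟩),
        mul_inv_cancel_right]
  have hidx : (W.subgroupOf N).index ∣ 6 := by
    rw [← hker, index_ker]
    refine (card_subgroup_dvd_card _).trans (dvd_of_eq ?_)
    rw [Nat.card_perm, hT]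
    rfl
  have hodd : ¬ 2 ∣ (W.subgroupOf N).index := fun h2 => by
    have h3 : (W.subgroupOf N).index ∣ W.index := Dvd.intro _ (relIndex_mul_index hWN)
    exact P.not_dvd_index (hPW ▸ h2.trans h3)
  have hthree : (W.subgroupOf N).index ≠ 1 := fun h1 => by
    obtain ⟨g, hg⟩ := isConj_iff.1 (h.ctx.data.conj a b
      (orderOf_eq_prime (by rw [pow_two]; exact congrArg Subtype.val (IsKleinFour.mul_self (⟨a, ha⟩ : W))) ha1)
      (orderOf_eq_prime (by rw [pow_two]; exact congrArg Subtype.val (IsKleinFour.mul_self (⟨b, hb⟩ : W))) hb1))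
    haveI : IsMulCommutative W := ⟨⟨mul_comm_of_exponent_two IsKleinFour.exponent_two⟩⟩
    haveI : IsMulCommutative (P : Subgroup L) := hPW ▸ ‹IsMulCommutative W›
    obtain ⟨n, hn, he⟩ := P.conj_eq_normalizer_conj_of_mem a g⁻¹ (hPW.ge ha) (by rw [inv_inv, hg]; exact hPW.ge hb)
    rw [inv_inv, hg] at he
    rw [index_eq_one] at h1
    have hnW : n⁻¹ ∈ W := by
      have hnN : n⁻¹ ∈ N := inv_mem (by rw [show N = normalizer ((P : Subgroup L) : Set L) by rw [hPW]]; exact hn)
      exact (h1 ▸ mem_top (⟨n⁻¹, hnN⟩ : N) : (⟨n⁻¹, hnN⟩ : N) ∈ W.subgroupOf N)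
    have hc : n⁻¹ * a = a * n⁻¹ := congrArg Subtype.val (mul_comm' (⟨_, hnW⟩ : W) ⟨a, ha⟩)
    refine hab ?_
    rw [he, hc, mul_assoc, inv_mul_cancel, mul_one]
  have h3 : (W.subgroupOf N).index = 3 := by
    have := Nat.le_of_dvd (by norm_num) hidx
    interval_cases (W.subgroupOf N).index <;> omega
  rw [← (W.subgroupOf N).card_mul_index, h3, Nat.card_congr (subgroupOfEquivOfLe hWN).toEquiv,
    IsKleinFour.card_four]

/-- The normaliser of a Sylow 2-subgroup has order 168. -/
theorem LFac.card_normalizer_sylow (h : LFac t F L) (P : Sylow 2 G) :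
    Nat.card ↥(normalizer ((P : Subgroup G) : Set G)) = 168 := by
  classical
  haveI : Fact (Nat.Prime 2) := ⟨Nat.prime_two⟩
  obtain ⟨A, V, f⟩ := h.ctx.exists_frame
  obtain ⟨c, rfl⟩ := MulAction.exists_smul_eq G A P
  rw [show ((c • A : Sylow 2 G) : Subgroup G) = ((A : Subgroup G)).map (MulAut.conj c).toMonoidHom from rfl,
    ← map_equiv_normalizer_eq, card_map_of_injective (MulAut.conj c).injective]
  set N := normalizer ((A : Subgroup G) : Set G)
  let T := {a : G // a ∈ (A : Subgroup G) ∧ a ≠ 1}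
  letI : MulAction N T :=
    { smul := fun n v => ⟨(n : G) * v.1 * (n : G)⁻¹, (mem_normalizer_iff.1 n.2 v.1).1 v.2.1,
        fun e => v.2.2 (conj_eq_one_iff.1 e)⟩
      one_smul := fun v => Subtype.ext (by show (1 : G) * v.1 * (1 : G)⁻¹ = v.1; group)
      mul_smul := fun m n v => Subtype.ext (by
        show (m : G) * n * v.1 * ((m : G) * n)⁻¹ = m * (n * v.1 * (n : G)⁻¹) * (m : G)⁻¹; group) }
  haveI : MulAction.IsPretransitive N T := ⟨fun x y => by
    obtain ⟨n, hn, e⟩ := h.normalizer_trans A x.2.1 x.2.2 y.2.1 y.2.2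
    exact ⟨⟨n, hn⟩, Subtype.ext e⟩⟩
  have hT : Nat.card T = 7 := by
    have := Fintype.ofFinite (A : Subgroup G)
    rw [← Nat.card_congr (Equiv.subtypeSubtypeEquivSubtypeInter (fun v => v ∈ (A : Subgroup G))
      fun v => v ≠ 1), Nat.card_eq_fintype_card]
    rw [Fintype.card_congr (Equiv.subtypeEquivRight (q := fun v : (A : Subgroup G) => v ≠ 1) fun v => by
      simp), Fintype.card_subtype_compl, Fintype.card_subtype_eq, ← Nat.card_eq_fintype_card,
      f.card_eight]
  let τ : T := ⟨t, f.htA, fun e => by simpa [e] using h.data.invol⟩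
  have hidx := MulAction.index_stabilizer_of_transitive N τ
  rw [hT] at hidx
  -- the stabiliser is `⟨t⟩ × N_L(V)`
  set M := normalizer (V.subgroupOf L : Set L) with hM
  have hVm : ∀ v : G, v ∈ (A : Subgroup G) → v ∈ L → v ∈ V := fun v hv hvL => f.vdef.ge ⟨hv, hvL⟩
  have hconjL : ∀ x : G, Commute x t → ∀ v ∈ L, x * v * x⁻¹ ∈ L := fun x hx v hv => h.ctx.conj_mem hx hv
  have hMN : ∀ m : M, ((m : L) : G) ∈ N := fun m =>
    f.four_le_normalizer (m : L).2 fun v hv =>
      (mem_normalizer_iff.1 m.2 ⟨v, f.memE₀ hv⟩).1 hv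
  let φ : Bool × M → MulAction.stabilizer N τ := fun p =>
    ⟨⟨(if p.1 then t else 1) * ((p.2 : L) : G), mul_mem (by
        split
        · exact le_normalizer f.htA
        · exact one_mem _) (hMN p.2)⟩, Subtype.ext (by
      show (if p.1 then t else 1) * ((p.2 : L) : G) * t * ((if p.1 then t else 1) * ((p.2 : L) : G))⁻¹ = t
      have hc : Commute ((if p.1 then t else 1) * ((p.2 : L) : G)) t :=
        Commute.mul_left (by split; exacts [Commute.refl t, Commute.one_left t]) (h.ctx.comm _ (p.2 : L).2)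
      rw [hc.eq, mul_inv_cancel_right])⟩
  have hφ : Function.Bijective φ := by
    constructor
    · rintro ⟨b, m⟩ ⟨b', m'⟩ e
      have e' : (if b then t else 1) * ((m : L) : G) = (if b' then t else 1) * ((m' : L) : G) :=
        congrArg (fun z : MulAction.stabilizer N τ => ((z : N) : G)) e
      cases b <;> cases b' <;> simp only [Bool.false_eq_true, if_false, if_true, one_mul] at e'
      · rw [Subtype.ext (Subtype.ext e')]
      · exact absurd ((eq_mul_inv_of_mul_eq e'.symm) ▸ mul_mem (m : L).2 (inv_mem (m' : L).2)) h.ctx.htE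
      · exact absurd ((eq_mul_inv_of_mul_eq e') ▸ mul_mem (m' : L).2 (inv_mem (m : L).2)) h.ctx.htE
      · rw [Subtype.ext (Subtype.ext (mul_left_cancel e'))]
    · rintro ⟨⟨z, hz⟩, hzt⟩
      have hzt' : Commute z t := mul_inv_eq_iff_eq_mul.1 (congrArg Subtype.val hzt)
      have key : ∀ w : G, w ∈ L → w ∈ N → ∃ m : M, ((m : L) : G) = w := fun w hw hwN => by
        refine ⟨⟨⟨w, hw⟩, ?_⟩, rfl⟩
        rw [hM, mem_normalizer_iff]
        intro v
        rw [mem_subgroupOf, mem_subgroupOf]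
        show (v : G) ∈ V ↔ w * (v : G) * w⁻¹ ∈ V
        have h1 := (mem_normalizer_iff.1 hwN (v : G))
        exact ⟨fun hv => hVm _ (h1.1 (f.memA hv)) (hconjL w (h.ctx.comm w hw) _ v.2),
          fun hv => hVm _ (h1.2 (f.memA hv)) v.2⟩
      rcases h.ctx.split z hzt' with hzL | ⟨w, hw, rfl⟩
      · obtain ⟨m, hm⟩ := key z hzL hz
        exact ⟨(false, m), Subtype.ext (Subtype.ext (by simp [φ, hm]))⟩
      · obtain ⟨m, hm⟩ := key w hw (by
          have := mul_mem (le_normalizer f.htA) hz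
          rwa [← mul_assoc, h.tt, one_mul] at this)
        exact ⟨(true, m), Subtype.ext (Subtype.ext (by simp [φ, hm]))⟩
  have hstab : Nat.card (MulAction.stabilizer N τ) = 24 := by
    rw [← Nat.card_congr (Equiv.ofBijective _ hφ), Nat.card_prod, h.card_normalizer_four f]
    simp
  rw [← (MulAction.stabilizer N τ).card_mul_index, hidx, hstab]

end Cfsg.Agent.AbelianSylow.Local
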