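import Cfsg.Agent.Lib.PSL2.Borel
import Cfsg.Agent.Lib.PSL2.Existence
import Cfsg.Agent.Lib.PSL2.Centralizers
import Cfsg.Agent.Lib.PSL2.Torus

/-!
# Two facts on `PSL₂(q)` for the section data (owner: helper80)

* `torus_conj_cases` : conjugation inside a torus of odd order fixes or inverts
* `exists_unipotent` : a Sylow `p`-subgroup: abelian of order `q`, exponent `p`, normaliser `q (q - 1) / d`
-/

set_option autoImplicit false
set_option linter.unusedSectionVars false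
set_option linter.style.haveILetI false

open Matrix MulAction Subgroup

namespace Cfsg.Agent.AbelianSylow.Local

open Cfsg.Agent.PSL2

variable {F : Type*} [Field F] [Finite F]

local notation "φ" => (ProjectiveSpecialLinearGroup.toPGL : PSL2 F →* PGL2 F)

theorem orderOf_odd_sq_eq_one {G : Type*} [Group G] {z : G} (ho : Odd (orderOf z)) (h : z ^ 2 = 1) :
    z = 1 := by
  rcases (Nat.dvd_prime Nat.prime_two).1 (orderOf_dvd_of_pow_eq_one h) with e | e
  · exact orderOf_eq_one_iff.1 e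
  · rw [e] at ho; exact absurd ho (by decide)

/-- Conjugation inside a torus of odd order fixes or inverts. -/
theorem torus_conj_cases (p : ℕ) [Fact p.Prime] [CharP F p] {y : PSL2 F}
    (hy : orderOf y = (Nat.card F - 1) / Nat.gcd 2 (Nat.card F - 1) ∨
      orderOf y = (Nat.card F + 1) / Nat.gcd 2 (Nat.card F - 1))
    (hodd : Odd (orderOf y)) {x k : PSL2 F} (hx : x ∈ zpowers y) (hkx : k * x * k⁻¹ ∈ zpowers y) :
    k * x * k⁻¹ = x ∨ k * x * k⁻¹ = x⁻¹ := by
  by_cases hy3 : orderOf y < 3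
  · have h1 : orderOf y = 1 := by
      obtain ⟨j, hj⟩ := hodd
      omega
    rw [orderOf_eq_one_iff] at h1
    rw [h1, zpowers_one_eq_bot, mem_bot] at hx
    left
    rw [hx, mul_one, mul_inv_cancel]
  obtain ⟨N, hN, hyN⟩ : ∃ N, (N = Nat.card F - 1 ∨ N = Nat.card F + 1) ∧
      orderOf y * Nat.gcd 2 (Nat.card F - 1) = N := by
    rcases hy with h | h <;> rw [h]
    · exact ⟨_, Or.inl rfl, Nat.div_mul_cancel (gcdTwo_dvd (Or.inl rfl))⟩
    · exact ⟨_, Or.inr rfl, Nat.div_mul_cancel (gcdTwo_dvd (Or.inr rfl))⟩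
  obtain ⟨T, rfl, hT⟩ := exists_lift_orderOf y
  rw [hyN] at hT
  have hN3 : 3 ≤ N := by
    rw [← hyN]
    exact (not_lt.1 hy3).trans (Nat.le_mul_of_pos_right _ (Nat.gcd_pos_of_pos_left _ two_pos))
  have h4 := tr_sq_ne_four_of_torus p hT hN hN3
  obtain ⟨k, rfl⟩ := QuotientGroup.mk_surjective k
  rw [← mem_powers_iff_mem_zpowers, Submonoid.mem_powers_iff] at hx hkx
  obtain ⟨i, rfl⟩ := hx
  obtain ⟨j, hj⟩ := hkx
  let K := AlgebraicClosure F
  let ρ : F →+* K := algebraMap F K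
  obtain ⟨c, hc⟩ := exists_root ρ T
  have hj' : (QuotientGroup.mk ((k * T ^ i * k⁻¹) * (T ^ j)⁻¹) : PSL2 F) = 1 := by
    rw [QuotientGroup.mk_mul, QuotientGroup.mk_inv, QuotientGroup.mk_pow, hj]
    rw [QuotientGroup.mk_mul, QuotientGroup.mk_mul, QuotientGroup.mk_inv, QuotientGroup.mk_pow]
    group
  have htr : tr (T ^ i) = tr (T ^ j) ∨ tr (T ^ i) = -tr (T ^ j) := by
    rcases mk_eq_one_iff.1 hj' with e | e
    · left
      rw [mul_inv_eq_one] at e
      rw [← e, tr_conj]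
    · right
      rw [mul_inv_eq_iff_eq_mul] at e
      rw [← tr_conj (T ^ i) k, e, neg_one_mul, tr_neg]
  have hc0 := root_ne_zero ρ hc
  set u := c ^ i with hu
  set v := c ^ j with hv
  have hu0 : u ≠ 0 := pow_ne_zero _ hc0
  have hv0 : v ≠ 0 := pow_ne_zero _ hc0
  have ti : ρ (tr (T ^ i)) = u + u⁻¹ := by rw [tr_pow_root ρ T hc i, inv_pow]
  have tj : ρ (tr (T ^ j)) = v + v⁻¹ := by rw [tr_pow_root ρ T hc j, inv_pow]
  have hsq : u ^ 2 = v ^ 2 ∨ (u * v) ^ 2 = 1 := by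
    rcases htr with e | e
    · have e' := congrArg ρ e
      rw [ti, tj] at e'
      have : (u - v) * (u * v - 1) = 0 := by
        linear_combination (u * v) * e' + (-v) * mul_inv_cancel₀ hu0 + u * mul_inv_cancel₀ hv0
      rcases mul_eq_zero.1 this with h | h
      · exact Or.inl (by rw [sub_eq_zero.1 h])
      · exact Or.inr (by rw [sub_eq_zero.1 h, one_pow])
    · have e' := congrArg ρ e
      rw [map_neg, ti, tj] at e'
      have : (u + v) * (u * v + 1) = 0 := by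
        linear_combination (u * v) * e' + (-v) * mul_inv_cancel₀ hu0 + (-u) * mul_inv_cancel₀ hv0
      rcases mul_eq_zero.1 this with h | h
      · exact Or.inl (by rw [eq_neg_of_add_eq_zero_left h, neg_sq])
      · exact Or.inr (by rw [eq_neg_of_add_eq_zero_left h, neg_one_sq])
  set Y : PSL2 F := QuotientGroup.mk T with hY
  have hpow : ∀ n : ℕ, c ^ n = 1 → Y ^ n = 1 := fun n hn => by
    rw [hY, ← QuotientGroup.mk_pow, (pow_eq_one_iff_root ρ hc h4 n).2 hn, QuotientGroup.mk_one]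
  have hdvd : ∀ n : ℕ, c ^ n = 1 → orderOf Y ∣ n := fun n hn => orderOf_dvd_of_pow_eq_one (hpow n hn)
  have hmk : (QuotientGroup.mk k : PSL2 F) * Y ^ i * (QuotientGroup.mk k)⁻¹ = Y ^ j := hj.symm
  rw [hmk]
  rcases hsq with h | h
  · left
    refine mul_inv_eq_one.1 (orderOf_odd_sq_eq_one ?_ ?_)
    · exact hodd.of_dvd_nat (orderOf_dvd_of_mem_zpowers
        (mul_mem (pow_mem (mem_zpowers Y) j) (inv_mem (pow_mem (mem_zpowers Y) i))))
    · rw [((Commute.refl Y).pow_pow j i).inv_right.mul_pow, inv_pow, mul_inv_eq_one, ← pow_mul, ← pow_mul]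
      rcases le_total i j with hij | hij
      · have h1 : c ^ ((j - i) * 2) = 1 := by
          refine mul_left_cancel₀ (pow_ne_zero (i * 2) hc0) ?_
          rw [← pow_add, mul_one, show i * 2 + (j - i) * 2 = j * 2 by omega, pow_mul, pow_mul, h]
        rw [show j * 2 = i * 2 + (j - i) * 2 by omega, pow_add, hpow _ h1, mul_one]
      · have h1 : c ^ ((i - j) * 2) = 1 := by
          refine mul_left_cancel₀ (pow_ne_zero (j * 2) hc0) ?_
          rw [← pow_add, mul_one, show j * 2 + (i - j) * 2 = i * 2 by omega, pow_mul, pow_mul, h]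
        rw [show i * 2 = j * 2 + (i - j) * 2 by omega, pow_add, hpow _ h1, mul_one]
  · right
    refine eq_inv_of_mul_eq_one_left (orderOf_odd_sq_eq_one ?_ ?_)
    · exact hodd.of_dvd_nat (orderOf_dvd_of_mem_zpowers
        (mul_mem (pow_mem (mem_zpowers Y) j) (pow_mem (mem_zpowers Y) i)))
    · rw [← pow_add, ← pow_mul]
      refine hpow _ ?_
      rw [pow_mul, pow_add, ← hu, ← hv, mul_comm v u, h]

variable (p : ℕ) [Fact p.Prime] [CharP F p]

/-- A Sylow `p`-subgroup and its normaliser. -/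
theorem exists_unipotent : ∃ U : Subgroup (PSL2 F), Nat.card U = Nat.card F ∧
    (∀ x ∈ U, ∀ y ∈ U, x * y = y * x) ∧ (∀ x ∈ U, x ≠ 1 → orderOf x = p) ∧
    (∀ x ∈ U, x ≠ 1 → centralizer ({x} : Set (PSL2 F)) = U) ∧
    Nat.gcd 2 (Nat.card F - 1) * Nat.card (normalizer (U : Set (PSL2 F))) =
      Nat.card F * (Nat.card F - 1) := by
  classical
  obtain ⟨S⟩ : Nonempty (Sylow p (PSL2 F)) := inferInstance
  obtain ⟨P, hP⟩ := normalizer_sylow_le p S
  let B := stabilizer (PSL2 F) P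
  obtain ⟨ψ, hψ⟩ : ∃ ψ : B →* Fˣ, ∀ x, ψ x = 1 ↔ (x : PSL2 F) ^ p = 1 := exists_borel_hom p P
  let U := ψ.ker.map B.subtype
  have hmem : ∀ x, x ∈ U ↔ x ∈ B ∧ x ^ p = 1 := by
    intro x
    constructor
    · rintro ⟨z, hz, rfl⟩
      exact ⟨z.2, (hψ z).1 hz⟩
    · rintro ⟨hx, hxp⟩
      exact ⟨⟨x, hx⟩, (hψ ⟨x, hx⟩).2 hxp, rfl⟩
  have hord : ∀ x ∈ U, x ≠ 1 → orderOf x = p := fun x hx hx1 => orderOf_eq_prime ((hmem x).1 hx).2 hx1
  -- `U` is abelian: it is made of translations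
  obtain ⟨k, hk⟩ := exists_map_pinf P
  have hk' : k⁻¹ • (pinf : Pt F) = P := by rw [← hk, inv_smul_smul]
  have haff : ∀ x ∈ U, ∃ b, k * φ x * k⁻¹ = aff 1 b := by
    intro x hx
    obtain ⟨a, b, hab⟩ := exists_aff_of_fix (g := k * φ x * k⁻¹) (by
      rw [mul_smul, mul_smul, hk', toPGL_smul, mem_stabilizer_iff.1 ((hmem x).1 hx).1, hk])
    have hp1 : (k * φ x * k⁻¹) ^ p = 1 := by
      rw [conj_pow, ← map_pow, ((hmem x).1 hx).2, map_one, mul_one, mul_inv_cancel]
    rw [hab, aff_pow_char_iff p] at hp1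
    exact ⟨b, hp1 ▸ hab⟩
  have hcomm : ∀ x ∈ U, ∀ y ∈ U, x * y = y * x := by
    intro x hx y hy
    obtain ⟨b, hb⟩ := haff x hx
    obtain ⟨b', hb'⟩ := haff y hy
    apply ProjectiveSpecialLinearGroup.toPGL_injective (n := Fin 2) (R := F)
    rw [map_mul, map_mul]
    have h : (k * φ x * k⁻¹) * (k * φ y * k⁻¹) = (k * φ y * k⁻¹) * (k * φ x * k⁻¹) := by
      rw [hb, hb', aff_mul_aff, aff_mul_aff, aff_inj]; exact ⟨rfl, by simp [add_comm]⟩
    calc φ x * φ y = k⁻¹ * ((k * φ x * k⁻¹) * (k * φ y * k⁻¹)) * k := by group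
      _ = k⁻¹ * ((k * φ y * k⁻¹) * (k * φ x * k⁻¹)) * k := by rw [h]
      _ = _ := by group
  -- the order
  have hSU : (S : Subgroup (PSL2 F)) ≤ U := by
    intro x hx
    have hxB : x ∈ B := hP (le_normalizer hx)
    refine ⟨⟨x, hxB⟩, ?_, rfl⟩
    obtain ⟨m, hm⟩ := S.isPGroup' ⟨x, hx⟩
    have hxm : x ^ p ^ m = 1 := congrArg Subtype.val hm
    have h1 : ψ ⟨x, hxB⟩ ^ p ^ m = 1 := by
      rw [← map_pow, show (⟨x, hxB⟩ : B) ^ p ^ m = 1 from Subtype.ext hxm, map_one]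
    clear hm hxm
    induction m with
    | zero => simpa using h1
    | succ m ih => exact ih (units_eq_one_of_pow_char p (by rw [← pow_mul, ← pow_succ]; exact h1))
  have hUp : IsPGroup p U := fun x => ⟨1, Subtype.ext (by rw [pow_one, Subgroup.coe_pow]; exact ((hmem x.1).1 x.2).2)⟩
  have hUS : U = (S : Subgroup (PSL2 F)) := S.3 hUp hSU
  obtain ⟨u₀, hu₀⟩ := exists_prime_orderOf_dvd_card' (G := (S : Subgroup (PSL2 F))) p
    (S.dvd_card_of_dvd_card (dvd_card_psl p))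
  have hu₀o : orderOf (u₀ : PSL2 F) = p := by rw [Subgroup.orderOf_coe, hu₀]
  have hu₀U : (u₀ : PSL2 F) ∈ U := hSU u₀.2
  have hfac : ∀ x ∈ U, x ≠ 1 → U ≤ centralizer ({x} : Set (PSL2 F)) := fun x hx _ z hz =>
    mem_centralizer_singleton_iff.2 (hcomm z hz x hx)
  have hcard : Nat.card U = Nat.card F := by
    haveI := Fintype.ofFinite F
    obtain ⟨n, hn, hq⟩ := FiniteField.card F p
    have hC : IsPGroup p (centralizer ({(u₀ : PSL2 F)} : Set (PSL2 F))) :=
      IsPGroup.of_card (n := n) (by rw [card_centralizer_char p hu₀o, Nat.card_eq_fintype_card, hq])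
    have hle : (S : Subgroup (PSL2 F)) ≤ centralizer ({(u₀ : PSL2 F)} : Set (PSL2 F)) :=
      hUS.ge.trans (hfac _ hu₀U (fun e => by rw [e, orderOf_one] at hu₀o; exact (Fact.out : p.Prime).ne_one hu₀o.symm))
    rw [hUS, ← S.3 hC hle, card_centralizer_char p hu₀o]
  have hcent : ∀ x ∈ U, x ≠ 1 → centralizer ({x} : Set (PSL2 F)) = U := fun x hx hx1 =>
    (eq_of_le_of_card_ge (hfac x hx hx1) (by rw [hcard, card_centralizer_char p (hord x hx hx1)])).symm
  refine ⟨U, hcard, hcomm, hord, hcent, ?_⟩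
  have hN : normalizer (U : Set (PSL2 F)) = B := by
    refine le_antisymm (hUS ▸ hP) fun z hz => mem_normalizer_iff.2 fun x => ?_
    rw [hmem, hmem, conj_pow]
    refine ⟨fun h => ⟨mul_mem (mul_mem hz h.1) (inv_mem hz), by rw [h.2, mul_one, mul_inv_cancel]⟩,
      fun h => ⟨?_, mul_left_cancel (mul_right_cancel (h.2.trans (by group)))⟩⟩
    have := mul_mem (mul_mem (inv_mem hz) h.1) hz
    simpa [mul_assoc] using this
  rw [hN, card_borel_mul]

end Cfsg.Agent.AbelianSylow.Local
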