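import Cfsg.Agent.Lib.AbelianSylowTwo.SolvCent
import Cfsg.Agent.Lib.GWKlein.General.Main
import Cfsg.Agent.Lib.Coprime.Generation
import Cfsg.Agent.Lib.Constrained.Basic
import Cfsg.Agent.Lib.HallOrders.Basic
import Cfsg.Agent.Lib.PSL2.Facts
import Cfsg.Agent.Lib.PSL2.Dihedral
import Cfsg.Agent.Lib.PSL2.Torus
import Cfsg.Agent.Lib.PSL2.Elements
import Cfsg.Agent.Lib.AltAut.Odd
import Cfsg.Agent.S0494

/-!
# A four group with centralisers `E × A` (owner: helper80)

`H : KleinAb K E A`: `E` is a four group, `A` abelian of odd order centralising `E`, and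
`C(e) = E A` for `e ∈ E#`.

* `KleinAb.structure_eq` : `oddCore K = A` and `|K| / |A| ∈ {4, 12, 60}`
-/

set_option autoImplicit false
set_option linter.unusedSectionVars false
set_option linter.style.haveILetI false

namespace Cfsg.Agent.AbelianSylow.Local

open Cfsg Subgroup

universe u

variable {K : Type u} [Group K] [Finite K]

/-- A four group with centralisers `E × A`. -/
structure KleinAb (E A : Subgroup K) : Prop where
  card_E : Nat.card E = 4
  sq : ∀ e ∈ E, e * e = 1
  odd_A : Odd (Nat.card A)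
  commA : ∀ a ∈ A, ∀ b ∈ A, Commute a b
  commEA : ∀ e ∈ E, ∀ a ∈ A, Commute e a
  cent : ∀ e ∈ E, e ≠ 1 → ∀ z : K, Commute z e → ∃ e' ∈ E, ∃ a ∈ A, z = e' * a

variable {E A : Subgroup K}

theorem KleinAb.commE (H : KleinAb E A) {e e' : K} (he : e ∈ E) (he' : e' ∈ E) : Commute e e' := by
  have h := H.sq _ (mul_mem he he')
  have h1 := H.sq e he
  have h2 := H.sq e' he'
  show e * e' = e' * e
  calc e * e' = e * (e * e' * (e * e')) * e' := by rw [h, mul_one]
    _ = (e * e) * (e' * e) * (e' * e') := by group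
    _ = e' * e := by rw [h1, h2, one_mul, mul_one]

theorem KleinAb.odd_mem (H : KleinAb E A) {z : K} (hz : Odd (orderOf z))
    (h : ∃ e ∈ E, ∃ a ∈ A, z = e * a) : z ∈ A := by
  obtain ⟨e, he, a, ha, rfl⟩ := h
  set n := orderOf (e * a) with hn
  have h1 : e ^ n * a ^ n = 1 := by
    rw [← (H.commEA e he a ha).mul_pow]; exact pow_orderOf_eq_one _
  obtain ⟨j, hj⟩ := hz
  have h2 : e ^ n = e := by
    rw [hj, pow_succ, pow_mul, pow_two, H.sq e he, one_pow, one_mul]
  rw [h2] at h1
  have heA : e ∈ A := by rw [mul_eq_one_iff_eq_inv.1 h1]; exact inv_mem (pow_mem ha n)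
  exact mul_mem heA ha

theorem KleinAb.inf_eq (H : KleinAb E A) {e : K} (he : e ∈ E) (he' : e ∈ A) : e = 1 := by
  have h : orderOf e ∣ 2 := orderOf_dvd_of_pow_eq_one (by rw [pow_two]; exact H.sq e he)
  rcases (Nat.dvd_prime Nat.prime_two).1 h with h | h
  · exact orderOf_eq_one_iff.1 h
  · have h2 := H.odd_A.of_dvd_nat (A.orderOf_dvd_natCard he')
    rw [h] at h2
    exact absurd h2 (by decide)

theorem KleinAb.not_cyclic (H : KleinAb E A) : ¬ IsCyclic E := fun h => by
  obtain ⟨g, hg⟩ := h.exists_generator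
  have h1 : orderOf g = 4 := by rw [orderOf_eq_card_of_forall_mem_zpowers hg, H.card_E]
  have h2 : orderOf g ∣ 2 := orderOf_dvd_of_pow_eq_one
    (Subtype.ext (by rw [Subgroup.coe_pow, pow_two]; exact H.sq g g.2))
  rw [h1] at h2
  norm_num at h2

theorem KleinAb.exists_ne_one (H : KleinAb E A) : ∃ e ∈ E, e ≠ 1 := by
  by_contra! hcon
  have := H.card_E
  rw [(eq_bot_iff_forall E).2 hcon] at this
  simp at this

theorem KleinAb.oddCore_le (H : KleinAb E A) : Cfsg.oddCore K ≤ A := by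
  haveI : (Cfsg.oddCore K).Normal := Cores.pPrimeCore_normal 2 K
  haveI : IsMulCommutative E := ⟨⟨fun x y => Subtype.ext (H.commE x.2 y.2).eq⟩⟩
  have hodd : Odd (Nat.card (Cfsg.oddCore K)) :=
    Nat.coprime_two_right.1 (Cores.coprime_card_pPrimeCore (G := K) 2)
  refine Coprime.le_of_noncyclic H.not_cyclic (by rw [normalizer_eq_top]; exact le_top)
    (by rw [H.card_E]; exact Nat.Coprime.pow_left 2 (Nat.coprime_two_left.2 hodd))
    fun e he he1 z hz => H.odd_mem (hodd.of_dvd_nat (Subgroup.orderOf_dvd_natCard _ hz.1)) ?_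
  exact H.cent e he he1 z (mem_centralizer_singleton_iff.1 hz.2)

theorem KleinAb.card_sylow (H : KleinAb E A) {P : Subgroup K} (hP : IsPGroup 2 P) (hEP : E ≤ P) :
    P = E := by
  haveI : Fact (Nat.Prime 2) := ⟨Nat.prime_two⟩
  obtain ⟨e₀, he₀, he₀1⟩ := H.exists_ne_one
  haveI : Nontrivial P := ⟨⟨⟨e₀, hEP he₀⟩, 1, fun h => he₀1 (congrArg Subtype.val h)⟩⟩
  haveI := hP.center_nontrivial
  obtain ⟨z, hz, hz2⟩ : ∃ z ∈ center P, orderOf z = 2 := by
    obtain ⟨n, hn⟩ := IsPGroup.iff_card.1 (hP.to_subgroup (center P))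
    have hn0 : n ≠ 0 := by
      intro h
      rw [h, pow_zero] at hn
      exact absurd hn (Nat.ne_of_gt Finite.one_lt_card)
    obtain ⟨w, hw⟩ := exists_prime_orderOf_dvd_card' (G := center P) 2 (hn ▸ dvd_pow_self 2 hn0)
    exact ⟨w, w.2, by rw [orderOf_coe, hw]⟩
  have hzc : ∀ w ∈ P, Commute (z : K) w := fun w hw =>
    congrArg Subtype.val (mem_center_iff.1 hz ⟨w, hw⟩).symm
  have hz2' : orderOf (z : K) = 2 := by rw [orderOf_coe, hz2]
  obtain ⟨e', he', a, ha, hza⟩ := H.cent e₀ he₀ he₀1 z (hzc e₀ (hEP he₀))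
  have hzE : (z : K) ∈ E := by
    have h1 : (z : K) * z = 1 := by rw [← pow_two, ← hz2']; exact pow_orderOf_eq_one _
    rw [hza] at h1 ⊢
    have h2 : a * a = 1 := by
      have := (H.commEA e' he' a ha).mul_mul_mul_comm e' a
      rw [h1, H.sq e' he', one_mul] at this
      exact this
    have ha1 : a = 1 := by
      have h3 : orderOf a ∣ 2 := orderOf_dvd_of_pow_eq_one (by rw [pow_two]; exact h2)
      rcases (Nat.dvd_prime Nat.prime_two).1 h3 with h | h
      · exact orderOf_eq_one_iff.1 h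
      · have h4 := H.odd_A.of_dvd_nat (A.orderOf_dvd_natCard ha)
        rw [h] at h4
        exact absurd h4 (by decide)
    rwa [ha1, mul_one]
  refine le_antisymm (fun w hw => ?_) hEP
  obtain ⟨e, he, a, ha, rfl⟩ := H.cent z hzE (fun h => by rw [h, orderOf_one] at hz2'; omega) w (hzc w hw).symm
  have haP : a ∈ P := (mul_mem_cancel_left (hEP he)).1 hw
  obtain ⟨k, hk⟩ := hP ⟨a, haP⟩
  have h3 : orderOf a ∣ 2 ^ k := orderOf_dvd_of_pow_eq_one (by simpa using congrArg Subtype.val hk)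
  have h4 := H.odd_A.of_dvd_nat (A.orderOf_dvd_natCard ha)
  have ha1 : orderOf a = 1 :=
    Nat.eq_one_of_dvd_coprimes (Nat.Coprime.pow_right k (Nat.coprime_two_right.2 h4)) dvd_rfl h3
  rw [orderOf_eq_one_iff] at ha1
  rwa [ha1, mul_one]

theorem KleinAb.sylow (H : KleinAb E A) : ∃ P : Sylow 2 K, (P : Subgroup K) = E := by
  haveI : Fact (Nat.Prime 2) := ⟨Nat.prime_two⟩
  obtain ⟨P, hP⟩ := (IsPGroup.of_card (G := E) (p := 2) (n := 2) (by rw [H.card_E]; norm_num)).exists_le_sylow
  exact ⟨P, H.card_sylow P.2 hP⟩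

theorem KleinAb.not_eight (H : KleinAb E A) : ¬ 8 ∣ Nat.card K := fun h => by
  haveI : Fact (Nat.Prime 2) := ⟨Nat.prime_two⟩
  obtain ⟨P, hP⟩ := H.sylow
  have h' := P.pow_dvd_card_of_pow_dvd_card (n := 3) (by simpa using h)
  rw [hP, H.card_E] at h'
  omega

theorem KleinAb.conj_mem (H : KleinAb E A) {u : K} (hu : orderOf u = 2) :
    ∃ g : K, g * u * g⁻¹ ∈ E ∧ g * u * g⁻¹ ≠ 1 := by
  haveI : Fact (Nat.Prime 2) := ⟨Nat.prime_two⟩
  obtain ⟨P, hP⟩ := H.sylow
  obtain ⟨Q, hQ⟩ := (IsPGroup.of_card (G := zpowers u) (p := 2) (n := 1)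
    (by rw [Nat.card_zpowers, hu, pow_one])).exists_le_sylow
  obtain ⟨c, hc⟩ := MulAction.exists_smul_eq K Q P
  refine ⟨c, ?_, fun h => ?_⟩
  · rw [← hP, ← hc, Sylow.coe_subgroup_smul]
    exact mem_map.2 ⟨u, hQ (mem_zpowers u), rfl⟩
  · rw [conj_eq_one_iff] at h
    rw [h, orderOf_one] at hu
    omega

/-- The centraliser of an involution is abelian. -/
theorem KleinAb.comm_cent (H : KleinAb E A) {u : K} (hu : orderOf u = 2) {v w : K}
    (hv : Commute v u) (hw : Commute w u) : Commute v w := by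
  obtain ⟨g, hg, hg1⟩ := H.conj_mem hu
  have h1 := hv.map (MulAut.conj g).toMonoidHom
  have h2 := hw.map (MulAut.conj g).toMonoidHom
  simp only [MulEquiv.coe_toMonoidHom, MulAut.conj_apply] at h1 h2
  obtain ⟨e, he, a, ha, e1⟩ := H.cent _ hg hg1 _ h1
  obtain ⟨e', he', a', ha', e2⟩ := H.cent _ hg hg1 _ h2
  have h3 : Commute (g * v * g⁻¹) (g * w * g⁻¹) := by
    rw [e1, e2]
    exact Commute.mul_left ((H.commE he he').mul_right (H.commEA e he a' ha'))
      ((H.commEA e' he' a ha).symm.mul_right (H.commA a ha a' ha'))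
  have := h3.map (MulAut.conj g⁻¹).toMonoidHom
  simpa [mul_assoc] using this

theorem card_psl_eq_sixty {F : Type} [Field F] [Fintype F]
    (hF : ((Fintype.card F % 8 = 3 ∨ Fintype.card F % 8 = 5) ∧ 5 ≤ Fintype.card F) ∨
      ∃ n : ℕ, 2 ≤ n ∧ Fintype.card F = 2 ^ n)
    (h8 : ¬ 8 ∣ Nat.card (PSL2.PSL2 F))
    (hcomm : ∀ u v w : PSL2.PSL2 F, orderOf u = 2 → Commute v u → Commute w u → Commute v w) :
    (Fintype.card F = 4 ∨ Fintype.card F = 5) ∧ Nat.card (PSL2.PSL2 F) = 60 := by
  have hc : Nat.card F = Fintype.card F := Nat.card_eq_fintype_card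
  have hcard := PSL2.card_psl_mul (F := F)
  suffices hq : Fintype.card F = 4 ∨ Fintype.card F = 5 by
    refine ⟨hq, ?_⟩
    rcases hq with e | e <;> rw [hc, e] at hcard <;> norm_num at hcard <;> omega
  rcases hF with ⟨hm, h5⟩ | ⟨n, hn, hq⟩
  · right
    by_contra hne
    have hg : Nat.gcd 2 (Nat.card F - 1) = 2 := Nat.gcd_eq_left (by omega)
    obtain ⟨a, ha, hq⟩ : ∃ a, 2 ≤ a ∧
        (Fintype.card F + 1 = 4 * a ∨ Fintype.card F = 4 * a + 1) := by
      rcases hm with h | h
      · exact ⟨(Fintype.card F + 1) / 4, by omega, Or.inl (by omega)⟩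
      · exact ⟨(Fintype.card F - 1) / 4, by omega, Or.inr (by omega)⟩
    obtain ⟨x, hx⟩ := PSL2.exists_psl_orderOf_torus (F := F) (m := 2 * a) (by
      rw [hg]
      rcases hq with e | e
      · exact Or.inr ⟨1, by omega⟩
      · exact Or.inl ⟨1, by omega⟩)
    obtain ⟨p, hp⟩ := CharP.exists F
    haveI : Fact p.Prime := ⟨CharP.char_is_prime F p⟩
    obtain ⟨w, -, hw⟩ := PSL2.exists_inverting p (x := x) (fun hd => by
      rw [hx] at hd
      rcases (Nat.dvd_prime (Fact.out : p.Prime)).1 hd with e | e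
      · omega
      · have := (Nat.dvd_prime (Fact.out : p.Prime)).1 (Dvd.intro a e : 2 ∣ p)
        omega)
    have hu : orderOf (x ^ a) = 2 := by
      rw [orderOf_pow_of_dvd (by omega) (hx ▸ dvd_mul_left a 2), hx,
        Nat.mul_div_cancel _ (by omega)]
    have hwu : Commute w (x ^ a) := by
      refine mul_inv_eq_iff_eq_mul.1 ?_
      rw [← conj_pow, hw, inv_pow, inv_eq_iff_mul_eq_one, ← pow_two]
      exact orderOf_dvd_iff_pow_eq_one.1 hu.dvd
    have hwx : Commute w x := hcomm _ w x hu hwu (Commute.self_pow x a)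
    rw [hwx.eq, mul_inv_cancel_right, eq_inv_iff_mul_eq_one, ← pow_two,
      ← orderOf_dvd_iff_pow_eq_one, hx] at hw
    have := Nat.le_of_dvd two_pos hw
    omega
  · left
    by_contra hne
    have hn3 : 3 ≤ n := by
      rcases Nat.lt_or_ge n 3 with h | h
      · have : n = 2 := by omega
        rw [this] at hq
        exact absurd hq hne
      · exact h
    have hg : Nat.gcd 2 (Nat.card F - 1) = 1 := by
      have h2 : ¬ 2 ∣ Nat.card F - 1 := by
        have : 2 ∣ 2 ^ n := dvd_pow_self 2 (by omega)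
        have := Nat.two_pow_pos n
        omega
      exact (Nat.prime_two.coprime_iff_not_dvd).2 h2
    rw [hg, one_mul] at hcard
    refine h8 (hcard ▸ dvd_mul_of_dvd_left ?_ _)
    rw [hc, hq]
    exact (show 8 = 2 ^ 3 from rfl) ▸ pow_dvd_pow 2 hn3

/-- With trivial odd core, `A = 1` and `|K| ∈ {4, 12, 60}`. -/
theorem KleinAb.of_core_bot (H : KleinAb E A) (hO : Cfsg.oddCore K = ⊥) :
    A = ⊥ ∧ (Nat.card K = 4 ∨ Nat.card K = 12 ∨ Nat.card K = 60) := by
  classical
  haveI : Fact (Nat.Prime 2) := ⟨Nat.prime_two⟩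
  obtain ⟨P, hP⟩ := H.sylow
  have hsplit : ∀ e ∈ E, e ≠ 1 → (∀ z : K, Commute z e) → A = ⊥ ∧ Nat.card K = 4 := by
    intro e he he1 hall
    have hAn : A.Normal := ⟨fun a ha g => by
      obtain ⟨e', he', a', ha', rfl⟩ := H.cent e he he1 g (hall g)
      have hc : Commute (e' * a') a := (H.commEA e' he' a ha).mul_left (H.commA a' ha' a ha)
      rwa [hc.eq, mul_inv_cancel_right]⟩
    have hA : A = ⊥ := le_bot_iff.1 (hO ▸ Cores.le_pPrimeCore hAn (Nat.coprime_two_right.2 H.odd_A))
    refine ⟨hA, ?_⟩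
    rw [← H.card_E]
    refine ((Nat.card_congr (Equiv.subtypeUnivEquiv fun g : K => ?_)).symm : Nat.card K = Nat.card E)
    obtain ⟨e', he', a', ha', rfl⟩ := H.cent e he he1 g (hall g)
    rw [hA, mem_bot] at ha'
    rwa [ha', mul_one]
  by_cases hsol : Group.IsSolvable K
  · haveI := hsol
    obtain ⟨e₀, he₀, he₀1⟩ := H.exists_ne_one
    haveI : Nontrivial K := ⟨⟨e₀, 1, he₀1⟩⟩
    obtain ⟨p, hp, M, hMn, hM1, hMp⟩ := Solvable.exists_normal_pGroup_ne_bot K
    haveI := hMn
    haveI : Fact p.Prime := ⟨hp⟩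
    obtain rfl : p = 2 := by
      by_contra hne
      obtain ⟨n, hn⟩ := IsPGroup.iff_card.1 hMp
      exact hM1 (le_bot_iff.1 (hO ▸ Cores.le_pPrimeCore hMn
        (hn ▸ Nat.Coprime.pow_left n ((Nat.coprime_primes hp Nat.prime_two).2 hne))))
    have hME : M ≤ E := by
      obtain ⟨Q, hQ⟩ := hMp.exists_le_sylow
      obtain ⟨c, hc⟩ := MulAction.exists_smul_eq K Q P
      intro m hm
      rw [← hP, ← hc, Sylow.coe_subgroup_smul]
      exact mem_map.2 ⟨c⁻¹ * m * c, hQ (by simpa using hMn.conj_mem m hm c⁻¹),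
        by simp [mul_assoc]⟩
    obtain ⟨m, hm, hm1⟩ : ∃ m ∈ M, m ≠ 1 := by
      by_contra! hcon
      exact hM1 ((eq_bot_iff_forall M).2 hcon)
    by_cases hfix : ∀ g : K, g * m * g⁻¹ = m
    · obtain ⟨h1, h2⟩ := hsplit m (hME hm) hm1 fun z => mul_inv_eq_iff_eq_mul.1 (hfix z)
      exact ⟨h1, Or.inl h2⟩
    push Not at hfix
    obtain ⟨g, hg⟩ := hfix
    have hgm : g * m * g⁻¹ ∈ M := hMn.conj_mem m hm g
    have hg1 : g * m * g⁻¹ ≠ 1 := fun h => hm1 (conj_eq_one_iff.1 h)
    have hEM : E = M := by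
      refine ((eq_of_le_of_card_ge hME ?_)).symm
      rw [H.card_E]
      have h3 : ({1, m, g * m * g⁻¹} : Set K) ⊆ (M : Set K) := by
        rintro z (rfl | rfl | rfl)
        exacts [one_mem M, hm, hgm]
      have := Set.ncard_le_ncard h3 (Set.toFinite _)
      rw [Set.ncard_insert_of_notMem (by simp [hm1.symm, hg1.symm]),
        Set.ncard_pair (Ne.symm hg)] at this
      have h4 : Nat.card M ∣ 4 := H.card_E ▸ card_dvd_of_le hME
      have h5 : Nat.card M ≤ 4 := Nat.le_of_dvd (by norm_num) h4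
      change 3 ≤ Nat.card M at this
      interval_cases (Nat.card M) <;> omega
    subst hEM
    obtain ⟨e₀, he₀, he₀1⟩ := H.exists_ne_one
    have hCE : ∀ z : K, (∀ e ∈ E, Commute z e) → ∃ e' ∈ E, ∃ a ∈ A, z = e' * a :=
      fun z hz => H.cent e₀ he₀ he₀1 z (hz e₀ he₀)
    have hAn : A.Normal := ⟨fun a ha c => by
      refine H.odd_mem ?_ (hCE _ fun e he => ?_)
      · rw [← MulAut.conj_apply, MulEquiv.orderOf_eq]
        exact H.odd_A.of_dvd_nat (A.orderOf_dvd_natCard ha)
      · have h1 : c⁻¹ * e * c ∈ E := by simpa using hMn.conj_mem e he c⁻¹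
        have := (H.commEA _ h1 a ha).symm.map (MulAut.conj c).toMonoidHom
        simpa [mul_assoc] using this⟩
    have hA : A = ⊥ := le_bot_iff.1 (hO ▸ Cores.le_pPrimeCore hAn (Nat.coprime_two_right.2 H.odd_A))
    refine ⟨hA, ?_⟩
    let φ : K →* MulAut E := MulAut.conjNormal
    have hker : φ.ker = E := by
      ext z
      rw [MonoidHom.mem_ker]
      refine ⟨fun hz => ?_, fun hz => MulEquiv.ext fun e => Subtype.ext ?_⟩
      · obtain ⟨e', he', a, ha, rfl⟩ := hCE z fun e he => by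
          have := congrArg (fun α : MulAut E => ((α ⟨e, he⟩ : E) : K)) hz
          simp only [φ, MulAut.conjNormal_apply, MulAut.one_apply] at this
          exact mul_inv_eq_iff_eq_mul.1 this
        rw [hA, mem_bot] at ha
        rwa [ha, mul_one]
      · simp only [φ, MulAut.conjNormal_apply, MulAut.one_apply]
        rw [(H.commE hz e.2).eq, mul_inv_cancel_right]
    have hidx : E.index ∣ 6 := by
      rw [← hker, index_ker]
      exact (card_subgroup_dvd_card _).trans (HallOrders.card_mulAut_dvd H.card_E)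
    have h8 := H.not_eight
    rw [← E.card_mul_index, H.card_E] at h8 ⊢
    have := Nat.le_of_dvd (by norm_num) hidx
    interval_cases E.index <;> omega
  · haveI : IsMulCommutative (P : Subgroup K) :=
      hP ▸ ⟨⟨fun x y => Subtype.ext (H.commE x.2 y.2).eq⟩⟩
    have hC : ∀ u : K, orderOf u = 2 → Group.IsSolvable ↥(centralizer ({u} : Set K)) := fun u hu => by
      haveI : IsMulCommutative ↥(centralizer ({u} : Set K)) := ⟨⟨fun v w => Subtype.ext
        (H.comm_cent hu (mem_centralizer_singleton_iff.1 v.2)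
          (mem_centralizer_singleton_iff.1 w.2)).eq⟩⟩
      exact Group.isSolvable_of_comm fun v w => mul_comm' v w
    obtain ⟨F, _, _, hF, N₀, hN₀n, ⟨f⟩, hN₀c⟩ := (AbelianSylowTwo.solvable_or_psl
      GWKlein.kleinGWSolvable P inferInstance hC).resolve_left hsol
    haveI : (Cfsg.oddCore K).Normal := Cores.pPrimeCore_normal 2 K
    haveI := hN₀n
    set π := QuotientGroup.mk' (Cfsg.oddCore K)
    have hπ : Function.Bijective π :=
      ⟨(MonoidHom.ker_eq_bot_iff π).1 (by rw [QuotientGroup.ker_mk', hO]), QuotientGroup.mk'_surjective _⟩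
    set e := MulEquiv.ofBijective π hπ
    set N := N₀.comap π with hN
    haveI : N.Normal := hN₀n.comap π
    have eN : ↥N ≃* ↥N₀ := (e.subgroupMap N).trans (MulEquiv.subgroupCongr (by
      show N.map π = N₀
      exact map_comap_eq_self_of_surjective hπ.2 N₀))
    let g : ↥N ≃* PSL2.PSL2 F := eN.trans f
    have hNc : centralizer (N : Set K) = ⊥ := by
      refine (eq_bot_iff_forall _).2 fun z hz => hπ.1 ?_
      have : π z ∈ centralizer (N₀ : Set (K ⧸ Cfsg.oddCore K)) := by
        rw [mem_centralizer_iff]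
        intro n hn
        obtain ⟨m, rfl⟩ := hπ.2 n
        rw [← map_mul, ← map_mul, mem_centralizer_iff.1 hz m hn]
      rw [hN₀c, mem_bot] at this
      rw [this, map_one]
    obtain ⟨hq, h60⟩ := card_psl_eq_sixty hF (fun h => H.not_eight (h.trans (by
        rw [← Nat.card_congr g.toEquiv]; exact card_subgroup_dvd_card N)))
      fun u v w hu hv hw => by
        have hu' : orderOf ((g.symm u : N) : K) = 2 := by rw [orderOf_coe, MulEquiv.orderOf_eq, hu]
        have := H.comm_cent hu' ((hv.map g.symm.toMonoidHom).map N.subtype)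
          ((hw.map g.symm.toMonoidHom).map N.subtype)
        have h2 : Commute (g.symm v) (g.symm w) := Subtype.ext this.eq
        simpa using h2.map g.toMonoidHom
    have hN60 : Nat.card N = 60 := by rw [Nat.card_congr g.toEquiv, h60]
    haveI : IsSimpleGroup (PSL2.PSL2 F) := PSL2.isSimpleGroup_psl (by
      rw [Nat.card_eq_fintype_card]; omega)
    obtain ⟨eA⟩ := S0494.result h60
    have hKN : Nat.card K = 60 := by
      let φ : K →* MulAut N := MulAut.conjNormal
      have hφ : Function.Injective φ := by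
        rw [← MonoidHom.ker_eq_bot_iff, eq_bot_iff, ← hNc]
        intro z hz m hm
        have := congrArg (fun α : MulAut N => ((α ⟨m, hm⟩ : N) : K)) (MonoidHom.mem_ker.1 hz)
        simp only [φ, MulAut.conjNormal_apply, MulAut.one_apply] at this
        exact (mul_inv_eq_iff_eq_mul.1 this).symm
      have h1 : Nat.card K ∣ Nat.card (MulAut (alternatingGroup (Fin 5))) :=
        (card_dvd_of_injective φ hφ).trans (Nat.card_congr (MulAut.congr (g.trans eA)).toEquiv).dvd
      have h2 : Nat.card (MulAut (alternatingGroup (Fin 5))) ∣ 120 := by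
        have hsurj : Function.Surjective
            (MulAut.conjNormal (H := alternatingGroup (Fin 5)) : Equiv.Perm (Fin 5) →* _) := fun θ => by
          obtain ⟨σ, hσ⟩ := AltAut.exists_conjNormal_of_threeCycle (n := 5) (by omega) θ
            (fun x hx => AltAut.threeCycle_of_ne_six (by omega) θ x hx)
          exact ⟨σ, hσ⟩
        have := card_dvd_of_surjective _ hsurj
        rwa [Nat.card_perm, Nat.card_fin] at this
      have h8 := H.not_eight
      have h3 := h1.trans h2
      obtain ⟨j, hj⟩ := hN60 ▸ card_subgroup_dvd_card N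
      rw [hj] at h3 h8 ⊢
      rw [show (120 : ℕ) = 60 * 2 from rfl, mul_dvd_mul_iff_left (by norm_num : (60 : ℕ) ≠ 0)] at h3
      rcases (Nat.dvd_prime Nat.prime_two).1 h3 with rfl | rfl
      · rfl
      · exact absurd ⟨15, rfl⟩ h8
    refine ⟨(eq_bot_iff_forall A).2 fun a ha => ?_, Or.inr (Or.inr hKN)⟩
    have hNtop : N = ⊤ := eq_top_of_card_eq N (by rw [hN60, hKN])
    obtain ⟨e₀, he₀, he₀1⟩ := H.exists_ne_one
    let θ : K →* alternatingGroup (Fin 5) := (g.trans eA).toMonoidHom.comp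
      ((MulEquiv.subgroupCongr hNtop).trans topEquiv).symm.toMonoidHom
    have hθ : Function.Injective θ :=
      (g.trans eA).injective.comp ((MulEquiv.subgroupCongr hNtop).trans topEquiv).symm.injective
    have key : ∀ k : ℕ, θ (e₀ * a) ^ k = 1 → e₀ ^ k * a ^ k = 1 := fun k hk => by
      rw [← (H.commEA e₀ he₀ a ha).mul_pow]
      exact hθ (by rw [map_pow, hk, map_one])
    have hodd := H.odd_A.of_dvd_nat (A.orderOf_dvd_natCard ha)
    have hodd_case : ∀ k : ℕ, Odd k → θ (e₀ * a) ^ k = 1 → a = 1 := by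
      rintro k ⟨j, rfl⟩ hk
      exfalso
      have h1 := key _ hk
      rw [pow_succ e₀, pow_mul, pow_two, H.sq e₀ he₀, one_pow, one_mul, mul_eq_one_iff_eq_inv] at h1
      exact he₀1 (H.inf_eq he₀ (h1 ▸ inv_mem (pow_mem ha _)))
    rcases PSL2.altFive_orders (θ (e₀ * a)) with h | h | h
    · have h1 := key 2 h
      rw [pow_two, H.sq e₀ he₀, one_mul] at h1
      rcases (Nat.dvd_prime Nat.prime_two).1 (orderOf_dvd_of_pow_eq_one h1) with h2 | h2
      · exact orderOf_eq_one_iff.1 h2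
      · rw [h2] at hodd; exact absurd hodd (by decide)
    · exact hodd_case 3 (by decide) h
    · exact hodd_case 5 (by decide) h

/-- The structure: `A` is the odd core. -/
theorem KleinAb.structure_eq (H : KleinAb E A) : Cfsg.oddCore K = A ∧
    (Nat.card K = 4 * Nat.card A ∨ Nat.card K = 12 * Nat.card A ∨ Nat.card K = 60 * Nat.card A) := by
  classical
  haveI : Fact (Nat.Prime 2) := ⟨Nat.prime_two⟩
  set O := Cfsg.oddCore K with hOdef
  haveI : O.Normal := Cores.pPrimeCore_normal 2 K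
  have hodd : Odd (Nat.card O) := Nat.coprime_two_right.1 (Cores.coprime_card_pPrimeCore (G := K) 2)
  set π := QuotientGroup.mk' O with hπdef
  have hOA : O ≤ A := H.oddCore_le
  have hinj : ∀ e ∈ E, π e = 1 → e = 1 := fun e he h =>
    H.inf_eq he (hOA ((QuotientGroup.eq_one_iff e).1 h))
  have H' : KleinAb (E.map π) (A.map π) := by
    refine ⟨?_, ?_, ?_, ?_, ?_, ?_⟩
    · rw [← H.card_E]
      refine (Nat.card_congr (Equiv.ofBijective (fun e : E => (⟨π e, mem_map_of_mem π e.2⟩ : E.map π))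
        ⟨fun e e' h => ?_, ?_⟩)).symm
      · have h' : π (e : K) = π e' := congrArg Subtype.val h
        exact Subtype.ext (mul_inv_eq_one.1 (hinj _ (mul_mem e.2 (inv_mem e'.2))
          (by rw [map_mul, map_inv, h', mul_inv_cancel])))
      · rintro ⟨_, e, he, rfl⟩
        exact ⟨⟨e, he⟩, rfl⟩
    · rintro _ ⟨e, he, rfl⟩
      rw [← map_mul, H.sq e he, map_one]
    · exact H.odd_A.of_dvd_nat (card_map_dvd A π)
    · rintro _ ⟨a, ha, rfl⟩ _ ⟨b, hb, rfl⟩
      exact (H.commA a ha b hb).map π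
    · rintro _ ⟨e, he, rfl⟩ _ ⟨a, ha, rfl⟩
      exact (H.commEA e he a ha).map π
    · rintro _ ⟨e, he, rfl⟩ he1 z hz
      obtain ⟨x, rfl⟩ := QuotientGroup.mk'_surjective O z
      have he1' : e ≠ 1 := fun h => he1 (by rw [h, map_one])
      have ho2 : orderOf e = 2 := orderOf_eq_prime (by rw [pow_two]; exact H.sq e he) he1'
      obtain ⟨o, ho, hox⟩ := Constrained.exists_mul_mem_centralizer (p := 2)
        (O := O) (T := zpowers e) (fun h => Nat.not_even_iff_odd.2 hodd (even_iff_two_dvd.2 h))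
        (IsPGroup.of_card (n := 1) (by rw [Nat.card_zpowers, ho2, pow_one])) (x := x) (fun v hv => by
          obtain ⟨k, rfl⟩ := mem_zpowers_iff.1 hv
          rw [← QuotientGroup.eq_one_iff, ← QuotientGroup.mk'_apply, ← hπdef, map_mul, map_mul, map_mul,
            map_inv, map_inv, map_zpow, (hz.zpow_right k).eq, mul_inv_cancel_right, mul_inv_cancel])
      obtain ⟨e', he', a, ha, heq⟩ := H.cent e he he1' (o * x)
        (mem_centralizer_iff.1 hox e (mem_zpowers e)).symm
      refine ⟨π e', mem_map_of_mem π he', π a, mem_map_of_mem π ha, ?_⟩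
      rw [← map_mul, ← heq, map_mul, show π o = 1 from (QuotientGroup.eq_one_iff o).2 ho, one_mul]
  obtain ⟨hA, hK⟩ := H'.of_core_bot (Cores.pPrimeCore_quotient_self 2)
  have hAO : O = A := le_antisymm hOA fun a ha =>
    (QuotientGroup.eq_one_iff a).1 (by
      have h := mem_map_of_mem π ha
      rwa [hA, mem_bot] at h)
  refine ⟨hAO, ?_⟩
  rw [card_eq_card_quotient_mul_card_subgroup O, hAO.symm]
  rcases hK with h | h | h <;> rw [h] <;> simp

end Cfsg.Agent.AbelianSylow.Local
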