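import Cfsg.Agent.Lib.AbelianSylow.Local.Torus
import Cfsg.Agent.Lib.AbelianSylow.Local.KleinAbelian

/-!
# Centralisers of the odd part of the torus (owner: helper80)

For `x ∈ A# = (oddTor y)#`, `C = C(x)`:

* `Torus.kleinAb`          : `E` is a four group of `C` with centralisers `E × A`
* `Torus.oddCore_cent`     : `O(C) = A`
* `Torus.card_cent_oddTor` : `|C| ∈ {4a, 12a, 60a}`
* `Torus.cent_le_normalizer` : `C ≤ N(A)`
* `Torus.oddTor_TI`        : `A` meets its other conjugates trivially
* `Torus.cent_mul`         : `C(e x) = E × A`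
-/

set_option autoImplicit false
set_option linter.unusedSectionVars false
set_option linter.style.haveILetI false

namespace Cfsg.Agent.AbelianSylow.Local

open Cfsg Subgroup AbelianTwoPSL Involution

universe u

variable {G : Type u} [Group G] [Finite G] {F : Type} [Field F] [Fintype F]
variable {t : G} {L : Subgroup G} {a : ℕ} {S : Sylow 2 G} {V : Subgroup G} {i s y x : G}

theorem Torus.tor_le_cent (T : Torus F t L a S V i s y) (hx : x ∈ oddTor y) :
    tor t y ≤ centralizer ({x} : Set G) := fun _ hz =>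
  mem_centralizer_singleton_iff.2 (T.tor_comm hz (T.oddTor_le_tor hx)).eq

theorem Torus.kleinAb (T : Torus F t L a S V i s y) (hx : x ∈ oddTor y) (hx1 : x ≠ 1) :
    KleinAb ((four t i).subgroupOf (centralizer ({x} : Set G)))
      ((oddTor y).subgroupOf (centralizer ({x} : Set G))) := by
  have hE := (T.four_le_tor).trans (T.tor_le_cent hx)
  have hA := (T.oddTor_le_tor).trans (T.tor_le_cent hx)
  refine ⟨?_, fun e he => ?_, ?_, fun u hu v hv => ?_, fun e he v hv => ?_, fun e he he1 z hz => ?_⟩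
  · rw [Nat.card_congr (subgroupOfEquivOfLe hE).toEquiv, T.card_four]
  · exact Subtype.ext (T.frame.sq_A (T.four_le_sylow he))
  · rw [Nat.card_congr (subgroupOfEquivOfLe hA).toEquiv, T.card_oddTor]; exact T.a_odd
  · exact Subtype.ext (T.tor_comm (T.oddTor_le_tor hu) (T.oddTor_le_tor hv)).eq
  · exact Subtype.ext (T.tor_comm (T.four_le_tor he) (T.oddTor_le_tor hv)).eq
  · have hz' : (z : G) ∈ tor t y := (T.cent_inf (e := (e : G)) he
      (fun h => he1 (Subtype.ext h)) hx hx1).le
      ⟨z.2, mem_centralizer_singleton_iff.2 (congrArg Subtype.val hz.eq)⟩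
    obtain ⟨e', he', w, hw, h⟩ := T.tor_split hz'
    exact ⟨⟨e', hE he'⟩, he', ⟨w, hA hw⟩, hw, Subtype.ext h⟩

/-- The odd core of `C(x)` is `A`. -/
theorem Torus.oddCore_cent (T : Torus F t L a S V i s y) (hx : x ∈ oddTor y) (hx1 : x ≠ 1) :
    Cfsg.oddCore ↥(centralizer ({x} : Set G)) = (oddTor y).subgroupOf (centralizer ({x} : Set G)) :=
  (T.kleinAb hx hx1).structure_eq.1

/-- The order of `C(x)`. -/
theorem Torus.card_cent_oddTor (T : Torus F t L a S V i s y) (hx : x ∈ oddTor y) (hx1 : x ≠ 1) :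
    Nat.card (centralizer ({x} : Set G)) = 4 * a ∨
      Nat.card (centralizer ({x} : Set G)) = 12 * a ∨
      Nat.card (centralizer ({x} : Set G)) = 60 * a := by
  have h := (T.kleinAb hx hx1).structure_eq.2
  rwa [Nat.card_congr (subgroupOfEquivOfLe ((T.oddTor_le_tor).trans (T.tor_le_cent hx))).toEquiv,
    T.card_oddTor] at h

/-- The Sylow 2-subgroup `E` of `C(x)`. -/
theorem Torus.sylow_cent (T : Torus F t L a S V i s y) (hx : x ∈ oddTor y) (hx1 : x ≠ 1) :
    ∃ P : Sylow 2 (centralizer ({x} : Set G)),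
      (P : Subgroup (centralizer ({x} : Set G))) = (four t i).subgroupOf _ :=
  (T.kleinAb hx hx1).sylow

/-- `C(x) = E × A` if it is no bigger. -/
theorem Torus.cent_eq_tor (T : Torus F t L a S V i s y) (hx : x ∈ oddTor y)
    (h : Nat.card (centralizer ({x} : Set G)) = 4 * a) : centralizer ({x} : Set G) = tor t y :=
  (eq_of_le_of_card_ge (T.tor_le_cent hx) (by rw [h, T.card_tor])).symm

theorem Torus.cent_le_normalizer (T : Torus F t L a S V i s y) (hx : x ∈ oddTor y) (hx1 : x ≠ 1)
    {z : G} (hz : Commute z x) {w : G} (hw : w ∈ oddTor y) : z * w * z⁻¹ ∈ oddTor y := by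
  set C := centralizer ({x} : Set G)
  have hn : ((oddTor y).subgroupOf C).Normal := by
    rw [← T.oddCore_cent hx hx1]; exact Cores.pPrimeCore_normal 2 C
  exact hn.conj_mem ⟨w, T.tor_le_cent hx (T.oddTor_le_tor hw)⟩ hw
    ⟨z, mem_centralizer_singleton_iff.2 hz.eq⟩

/-- What maps an element of `A#` into `A` normalises `A`. -/
theorem Torus.oddTor_TI (T : Torus F t L a S V i s y) (hx : x ∈ oddTor y) (hx1 : x ≠ 1) {g : G}
    (hg : g * x * g⁻¹ ∈ oddTor y) : g ∈ normalizer (oddTor y : Set G) := by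
  haveI : Fact (Nat.Prime 2) := ⟨Nat.prime_two⟩
  set x' := g * x * g⁻¹ with hx'
  have hx'1 : x' ≠ 1 := fun h => hx1 (conj_eq_one_iff.1 h)
  set C := centralizer ({x} : Set G)
  set C' := centralizer ({x'} : Set G)
  -- the image of `A` in `C(x')` is an odd normal subgroup
  have hle : (oddTor y).map (MulAut.conj g).toMonoidHom ≤ C' := by
    rintro _ ⟨w, hw, rfl⟩
    have h : Commute w x := T.tor_comm (T.oddTor_le_tor hw) (T.oddTor_le_tor hx)
    exact mem_centralizer_singleton_iff.2 (h.map (MulAut.conj g).toMonoidHom).eq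
  have hn : (((oddTor y).map (MulAut.conj g).toMonoidHom).subgroupOf C').Normal := ⟨by
    rintro ⟨_, _⟩ ⟨w, hw, rfl⟩ ⟨c, hc⟩
    have hc' : Commute (g⁻¹ * c * g) x := by
      have h := (show Commute c x' from mem_centralizer_singleton_iff.1 hc).map
        (MulAut.conj g⁻¹).toMonoidHom
      simpa [hx', mul_assoc] using h
    exact ⟨_, T.cent_le_normalizer hx hx1 hc' hw, by simp [mul_assoc]⟩⟩
  have hcard : Nat.card ((oddTor y).map (MulAut.conj g).toMonoidHom) = a := by
    rw [card_map_of_injective (MulAut.conj g).injective, T.card_oddTor]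
  have hsub := Cores.le_pPrimeCore hn (Nat.coprime_two_right.2 (by
    rw [Nat.card_congr (subgroupOfEquivOfLe hle).toEquiv, hcard]; exact T.a_odd))
  rw [show Cfsg.pPrimeCore 2 C' = (oddTor y).subgroupOf C' from T.oddCore_cent hg hx'1] at hsub
  have heq : (oddTor y).map (MulAut.conj g).toMonoidHom = oddTor y := by
    refine eq_of_le_of_card_ge (fun w hw => ?_) (by rw [hcard, T.card_oddTor])
    exact hsub (x := ⟨w, hle hw⟩) hw
  exact Coprime.mem_normalizer_of_forall fun w hw => heq.le (mem_map_of_mem _ hw)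

/-- `C(e x) = E × A`. -/
theorem Torus.cent_mul (T : Torus F t L a S V i s y) (hx : x ∈ oddTor y) (hx1 : x ≠ 1) {e : G}
    (he : e ∈ four t i) (he1 : e ≠ 1) : centralizer ({e * x} : Set G) = tor t y := by
  refine le_antisymm (fun z hz => (T.cent_inf he he1 hx hx1).le ?_) fun z hz =>
    mem_centralizer_singleton_iff.2
      (T.tor_comm hz (mul_mem (T.four_le_tor he) (T.oddTor_le_tor hx))).eq
  have hc : Commute z (e * x) := mem_centralizer_singleton_iff.1 hz
  have hex : Commute e x := T.tor_comm (T.four_le_tor he) (T.oddTor_le_tor hx)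
  obtain ⟨j, hj⟩ := T.odd_oddTor hx
  -- `e = (e x) ^ |x|`
  have h1 : (e * x) ^ orderOf x = e := by
    rw [hex.mul_pow, pow_orderOf_eq_one, mul_one, hj, pow_succ, pow_mul, pow_two,
      T.frame.sq_A (T.four_le_sylow he), one_pow, one_mul]
  have hze : Commute z e := h1 ▸ hc.pow_right _
  have hzx : Commute z x := by
    have := hze.inv_right.mul_right hc
    rwa [inv_mul_cancel_left] at this
  exact ⟨mem_centralizer_singleton_iff.2 hzx.eq, mem_centralizer_singleton_iff.2 hze.eq⟩

end Cfsg.Agent.AbelianSylow.Local
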